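import Mathlib

/-!
A TI-subgroup with odd element centralisers and `N(M) = M C(z)`, in a group with more involutions
than the index of `M`: the coset counting of Bender.
-/

set_option autoImplicit false
set_option linter.unusedSectionVars false

namespace Cfsg.Agent.LocalEvenD.TIInvol

open Subgroup

/-- The hypotheses. -/
structure Setup (G : Type*) [Group G] (M : Subgroup G) (z : G) : Prop where
  ne_bot : M ≠ ⊥
  ti : ∀ g : G, M ⊓ M.map (MulAut.conj g).toMonoidHom ≠ ⊥ →
    M.map (MulAut.conj g).toMonoidHom = M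
  ordz : orderOf z = 2
  zN : z ∈ normalizer (M : Set G)
  fac : M ⊔ (normalizer (M : Set G) ⊓ centralizer ({z} : Set G)) = normalizer (M : Set G)
  cenodd : ∀ x ∈ M, x ≠ 1 → Odd (Nat.card ↥(centralizer ({x} : Set G)))
  not_normal : ¬ M.Normal
  count : M.index < Nat.card {g : G // orderOf g = 2}

/-- The centraliser of `z` in the normaliser of `M`. -/
abbrev Dz {G : Type*} [Group G] (M : Subgroup G) (z : G) : Subgroup G :=
  normalizer (M : Set G) ⊓ centralizer ({z} : Set G)

variable {G : Type*} [Group G]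

theorem sq_of_ord {g : G} (h : orderOf g = 2) : g * g = 1 := by
  rw [← pow_two, ← h, pow_orderOf_eq_one]

theorem ne_one_of_ord {g : G} (h : orderOf g = 2) : g ≠ 1 := fun e => by
  rw [e, orderOf_one] at h
  omega

theorem ord_of_sq {g : G} (h : g * g = 1) (h1 : g ≠ 1) : orderOf g = 2 :=
  orderOf_eq_prime (by rw [pow_two, h]) h1

theorem inv_of_ord {g : G} (h : orderOf g = 2) : g⁻¹ = g :=
  inv_eq_of_mul_eq_one_right (sq_of_ord h)

theorem ord_conj (a g : G) : orderOf (a * g * a⁻¹) = orderOf g := by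
  simpa using orderOf_injective (MulAut.conj a).toMonoidHom (MulAut.conj a).injective g

variable {M : Subgroup G} {z : G}

theorem conjN {g : G} (hg : g ∈ normalizer (M : Set G)) {x : G} (hx : x ∈ M) :
    g * x * g⁻¹ ∈ M := (mem_normalizer_iff.1 hg x).1 hx

theorem conjN' {g : G} (hg : g ∈ normalizer (M : Set G)) {x : G} (hx : x ∈ M) :
    g⁻¹ * x * g ∈ M := by
  simpa using conjN (inv_mem hg) hx

theorem not_mem_mul {g x : G} (hg : g ∉ normalizer (M : Set G)) (hx : x ∈ M) :
    g * x ∉ normalizer (M : Set G) :=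
  fun h => hg ((Subgroup.mul_mem_cancel_right _ (le_normalizer hx)).1 h)

theorem not_mem_mul' {g x : G} (hg : g ∉ normalizer (M : Set G)) (hx : x ∈ M) :
    x * g ∉ normalizer (M : Set G) :=
  fun h => hg ((Subgroup.mul_mem_cancel_left _ (le_normalizer hx)).1 h)

namespace Setup

variable [Finite G] (S : Setup G M z)

include S

theorem ti_mem {g x : G} (hx : x ∈ M) (hx1 : x ≠ 1) (h : g * x * g⁻¹ ∈ M) :
    g ∈ normalizer (M : Set G) := by
  have hne : M ⊓ M.map (MulAut.conj g).toMonoidHom ≠ ⊥ := fun hb => by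
    have hm : g * x * g⁻¹ ∈ M ⊓ M.map (MulAut.conj g).toMonoidHom := ⟨h, x, hx, rfl⟩
    rw [hb, mem_bot, conj_eq_one_iff] at hm
    exact hx1 hm
  have he := S.ti g hne
  rw [mem_normalizer_iff]
  refine fun y => ⟨fun hy => he ▸ ⟨y, hy, rfl⟩, fun hy => ?_⟩
  rw [← he] at hy
  obtain ⟨w, hw, hwy⟩ := hy
  have : w = y := mul_left_cancel (mul_right_cancel hwy)
  exact this ▸ hw

theorem zz : z * z = 1 := sq_of_ord S.ordz

theorem zinv : z⁻¹ = z := inv_of_ord S.ordz

theorem eq_one_of_comm {x : G} (hx : x ∈ M) (h : x * z = z * x) : x = 1 := by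
  by_contra hx1
  have h2 := orderOf_dvd_natCard
    (⟨z, mem_centralizer_singleton_iff.2 h.symm⟩ : centralizer ({x} : Set G))
  rw [Subgroup.orderOf_mk, S.ordz, ← even_iff_two_dvd] at h2
  exact Nat.not_even_iff_odd.2 (S.cenodd x hx hx1) h2

theorem eq_one_of_sq {x : G} (hx : x ∈ M) (h : x * x = 1) : x = 1 := by
  by_contra hx1
  have h2 := orderOf_dvd_natCard
    (⟨x, mem_centralizer_singleton_iff.2 rfl⟩ : centralizer ({x} : Set G))
  rw [Subgroup.orderOf_mk, ord_of_sq h hx1, ← even_iff_two_dvd] at h2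
  exact Nat.not_even_iff_odd.2 (S.cenodd x hx hx1) h2

/-- `z` inverts `M`, which is abelian of odd order. -/
theorem inverts : (∀ x ∈ M, z * x * z = x⁻¹) ∧ (∀ x ∈ M, ∀ y ∈ M, x * y = y * x) ∧
    Odd (Nat.card M) := by
  have hmem : ∀ x : M, z * (x : G) * z ∈ M := fun x => by
    have := conjN S.zN x.2
    rwa [S.zinv] at this
  let φ : M →* M := MonoidHom.mk' (fun x => ⟨z * (x : G) * z, hmem x⟩) fun x y => Subtype.ext (by
    show z * ((x : G) * y) * z = (z * x * z) * (z * y * z)
    calc z * ((x : G) * y) * z = z * x * 1 * y * z := by rw [mul_one]; simp only [mul_assoc]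
      _ = _ := by rw [← S.zz]; simp only [mul_assoc])
  have hfix : MonoidHom.FixedPointFree φ := fun x hx => Subtype.ext (S.eq_one_of_comm x.2 (by
    have h : z * (x : G) * z = x := congrArg Subtype.val hx
    calc (x : G) * z = (z * x * z) * z := by rw [h]
      _ = z * x := by rw [mul_assoc, S.zz, mul_one]))
  have hinv : Function.Involutive φ := fun x => Subtype.ext (by
    show z * (z * (x : G) * z) * z = x
    calc z * (z * (x : G) * z) * z = (z * z) * x * (z * z) := by simp only [mul_assoc]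
      _ = x := by rw [S.zz, one_mul, mul_one])
  refine ⟨fun x hx => ?_, fun x hx y hy => ?_, hfix.odd_card_of_involutive hinv⟩
  · have := congrFun (hfix.coe_eq_inv_of_involutive hinv) (⟨x, hx⟩ : M)
    exact congrArg Subtype.val this
  · exact congrArg Subtype.val (hfix.commute_all_of_involutive hinv (⟨x, hx⟩ : M) ⟨y, hy⟩)

theorem z_inv {x : G} (hx : x ∈ M) : z * x * z = x⁻¹ := S.inverts.1 x hx

theorem comm {x y : G} (hx : x ∈ M) (hy : y ∈ M) : x * y = y * x := S.inverts.2.1 x hx y hy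

theorem odd_card : Odd (Nat.card M) := S.inverts.2.2

theorem one_lt_card : 1 < Nat.card M := (one_lt_card_iff_ne_bot M).2 S.ne_bot

theorem zD : z ∈ Dz M z := ⟨S.zN, mem_centralizer_singleton_iff.2 rfl⟩

theorem eq_one_of_mem {x : G} (hx : x ∈ M) (hD : x ∈ Dz M z) : x = 1 :=
  S.eq_one_of_comm hx (mem_centralizer_singleton_iff.1 hD.2)

theorem decomp {y : G} (hy : y ∈ normalizer (M : Set G)) :
    ∃ x ∈ M, ∃ d ∈ Dz M z, y = x * d := by
  have h1 : y ∈ M ⊔ Dz M z := by rw [S.fac]; exact hy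
  rw [← SetLike.mem_coe, coe_mul_of_right_le_normalizer_left M (Dz M z) inf_le_left] at h1
  obtain ⟨x, hx, d, hd, rfl⟩ := h1
  exact ⟨x, hx, d, hd, rfl⟩

theorem decomp_unique {x x' d d' : G} (hx : x ∈ M) (hx' : x' ∈ M) (hd : d ∈ Dz M z)
    (hd' : d' ∈ Dz M z) (h : x * d = x' * d') : x = x' ∧ d = d' := by
  have h1 : x'⁻¹ * x = 1 := S.eq_one_of_mem (mul_mem (inv_mem hx') hx) (by
    rw [show x'⁻¹ * x = d' * d⁻¹ by
      rw [eq_mul_inv_iff_mul_eq, mul_assoc, h, inv_mul_cancel_left]]
    exact mul_mem hd' (inv_mem hd))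
  have hxx : x = x' := (inv_mul_eq_one.1 h1).symm
  exact ⟨hxx, mul_left_cancel (hxx ▸ h)⟩

theorem card_normalizer :
    Nat.card (normalizer (M : Set G)) = Nat.card M * Nat.card (Dz M z) := by
  rw [← Nat.card_prod]
  refine (Nat.card_congr (Equiv.ofBijective
    (fun p : M × Dz M z => (⟨p.1 * p.2, mul_mem (le_normalizer p.1.2) p.2.2.1⟩ :
      normalizer (M : Set G))) ⟨?_, ?_⟩)).symm
  · rintro ⟨x, d⟩ ⟨x', d'⟩ h
    obtain ⟨h1, h2⟩ := S.decomp_unique x.2 x'.2 d.2 d'.2 (congrArg Subtype.val h)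
    exact Prod.ext (Subtype.ext h1) (Subtype.ext h2)
  · rintro ⟨y, hy⟩
    obtain ⟨x, hx, d, hd, rfl⟩ := S.decomp hy
    exact ⟨(⟨x, hx⟩, ⟨d, hd⟩), rfl⟩

/-- An element of `Dz` of order two is `z`. -/
theorem eq_z {d : G} (hd : d ∈ Dz M z) (hd2 : orderOf d = 2) : d = z := by
  by_contra hne
  have hdz : d * z = z * d := mem_centralizer_singleton_iff.1 hd.2
  -- an involution of `Dz` inverts `M`
  have key : ∀ t : G, t ∈ Dz M z → orderOf t = 2 → ∀ x ∈ M, t * x * t = x⁻¹ := by
    intro t ht ht2 x hx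
    have hti := inv_of_ord ht2
    have hmem : ∀ x : M, t * (x : G) * t ∈ M := fun x => by
      have := conjN ht.1 x.2
      rwa [hti] at this
    let φ : M →* M := MonoidHom.mk' (fun x => ⟨t * (x : G) * t, hmem x⟩) fun x y => Subtype.ext (by
      show t * ((x : G) * y) * t = (t * x * t) * (t * y * t)
      calc t * ((x : G) * y) * t = t * x * 1 * y * t := by rw [mul_one]; simp only [mul_assoc]
        _ = _ := by rw [← sq_of_ord ht2]; simp only [mul_assoc])
    have hfix : MonoidHom.FixedPointFree φ := fun y hy => Subtype.ext <| by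
      by_contra hy1
      have h : t * (y : G) * t = y := congrArg Subtype.val hy
      have hc : t * (y : G) = y * t := by
        calc t * (y : G) = (t * y * t) * t := by rw [mul_assoc, sq_of_ord ht2, mul_one]
          _ = y * t := by rw [h]
      have h2 := orderOf_dvd_natCard
        (⟨t, mem_centralizer_singleton_iff.2 hc⟩ : centralizer ({(y : G)} : Set G))
      rw [Subgroup.orderOf_mk, ht2, ← even_iff_two_dvd] at h2
      exact Nat.not_even_iff_odd.2 (S.cenodd _ y.2 hy1) h2
    have hinv : Function.Involutive φ := fun y => Subtype.ext (by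
      show t * (t * (y : G) * t) * t = y
      calc t * (t * (y : G) * t) * t = (t * t) * y * (t * t) := by simp only [mul_assoc]
        _ = y := by rw [sq_of_ord ht2, one_mul, mul_one])
    exact congrArg Subtype.val (congrFun (hfix.coe_eq_inv_of_involutive hinv) (⟨x, hx⟩ : M))
  have hdd := sq_of_ord hd2
  have hdz2 : orderOf (d * z) = 2 := ord_of_sq (by
    rw [mul_assoc, ← mul_assoc z, ← hdz, mul_assoc, S.zz, mul_one, hdd])
    fun h => hne (by rw [mul_eq_one_iff_eq_inv.1 h, S.zinv])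
  obtain ⟨x, hx, hx1⟩ := (bot_or_exists_ne_one M).resolve_left S.ne_bot
  refine hx1 (S.eq_one_of_sq hx ?_)
  have h1 := key _ (mul_mem hd S.zD) hdz2 x hx
  have h2 := key d hd hd2 _ (inv_mem hx)
  rw [inv_inv] at h2
  have h3 : d * z * x * (d * z) = x := by
    conv_lhs => rw [show d * z * x * (d * z) = d * (z * x * (d * z)) by simp only [mul_assoc], hdz,
      show z * x * (z * d) = (z * x * z) * d by simp only [mul_assoc], S.z_inv hx,
      ← mul_assoc, h2]
  rw [h3] at h1
  nth_rewrite 1 [h1]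
  exact inv_mul_cancel x

/-- The involutions of `N(M)`. -/
theorem inv_normalizer {y : G} (hy : y ∈ normalizer (M : Set G)) (h2 : orderOf y = 2) :
    ∃ x ∈ M, y = x * z := by
  obtain ⟨x, hx, d, hd, rfl⟩ := S.decomp hy
  refine ⟨x, hx, ?_⟩
  have hdn : d * x * d⁻¹ ∈ M := conjN hd.1 hx
  have h := sq_of_ord h2
  have h3 : x * (d * x * d⁻¹) * (d * d) = 1 * 1 := by
    rw [mul_one, ← h]; group
  obtain ⟨h4, h5⟩ := S.decomp_unique (mul_mem hx hdn) M.one_mem (mul_mem hd hd) (one_mem _) h3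
  rcases eq_or_ne d 1 with rfl | hd1
  · simp only [one_mul, inv_one, mul_one] at h4
    have hx1 := S.eq_one_of_sq hx h4
    rw [hx1, one_mul, orderOf_one] at h2
    omega
  · rw [S.eq_z hd (ord_of_sq h5 hd1)]

theorem ord_mul_z {x : G} (hx : x ∈ M) : orderOf (x * z) = 2 := by
  refine ord_of_sq ?_ fun h => ?_
  · rw [show x * z * (x * z) = x * (z * x * z) by group, S.z_inv hx, mul_inv_cancel]
  · have h1 := S.eq_one_of_mem hx (by
      rw [mul_eq_one_iff_eq_inv.1 h, S.zinv]; exact S.zD)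
    rw [h1, one_mul] at h
    exact ne_one_of_ord S.ordz h

/-- All involutions of `N(M)` are conjugate to `z` under `M`. -/
theorem conj_z {x : G} (hx : x ∈ M) : ∃ y ∈ M, y * z * y⁻¹ = x * z := by
  have hcop : (2 : ℕ).Coprime (Nat.card M) := Nat.coprime_two_left.2 S.odd_card
  obtain ⟨⟨y, hy⟩, hyx⟩ := (powCoprime (G := M) (n := 2) hcop.symm).surjective ⟨x, hx⟩
  refine ⟨y, hy, ?_⟩
  have h : y ^ 2 = x := congrArg Subtype.val hyx
  have h' : z * y⁻¹ = y * z := by
    have := S.z_inv (inv_mem hy)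
    rw [inv_inv] at this
    calc z * y⁻¹ = (z * y⁻¹ * z) * z := by rw [mul_assoc (z * y⁻¹), S.zz, mul_one]
      _ = y * z := by rw [this]
  rw [mul_assoc, h', ← mul_assoc, ← pow_two, h]

theorem card_inv_normalizer :
    Nat.card {g : G // orderOf g = 2 ∧ g ∈ normalizer (M : Set G)} = Nat.card M :=
  (Nat.card_congr (Equiv.ofBijective
    (fun x : M => (⟨(x : G) * z, S.ord_mul_z x.2, mul_mem (le_normalizer x.2) S.zN⟩ :
      {g : G // orderOf g = 2 ∧ g ∈ normalizer (M : Set G)}))
    ⟨fun x x' h => Subtype.ext (mul_right_cancel (congrArg Subtype.val h)), fun g => by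
      obtain ⟨x, hx, hg⟩ := S.inv_normalizer g.2.2 g.2.1
      exact ⟨⟨x, hx⟩, Subtype.ext hg.symm⟩⟩)).symm

/-- A coset outside `N(M)` holds at most one involution. -/
theorem unique_inv {v x : G} (hv : v ∉ normalizer (M : Set G)) (hv2 : orderOf v = 2) (hx : x ∈ M)
    (hvx : orderOf (v * x) = 2) : x = 1 := by
  by_contra hx1
  refine hv (S.ti_mem hx hx1 ?_)
  rw [inv_of_ord hv2]
  have h := sq_of_ord hvx
  rw [show v * x * (v * x) = v * x * v * x by group, mul_eq_one_iff_eq_inv] at h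
  rw [h]
  exact inv_mem hx

end Setup

end Cfsg.Agent.LocalEvenD.TIInvol
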