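import Cfsg.Agent.LocalEvenD.TIInvol.Count

/-!
The case `|C(z) : C(z) ∩ N(M)| > 2`: then `C(z)` is elementary abelian of order `2 q` and
`|M| = q + 1` or `|M| = 2 q + 1`.
-/

set_option autoImplicit false
set_option linter.unusedSectionVars false

namespace Cfsg.Agent.LocalEvenD.TIInvol

open Subgroup

namespace Setup

variable {G : Type*} [Group G] [Finite G] {M : Subgroup G} {z : G} (S : Setup G M z)

include S

theorem D_le_of_big (hH : 2 * Nat.card (Dz M z) < Nat.card (centralizer ({z} : Set G))) :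
    ∀ d ∈ Dz M z, d = 1 ∨ d = z := by
  classical
  obtain ⟨h₁, hh₁⟩ := S.exists_outer
  obtain ⟨h₂, hh₂, hne⟩ : ∃ h₂ ∈ Outer M z, h₁ * h₂ ∉ normalizer (M : Set G) := by
    by_contra hcon
    push Not at hcon
    have hle : Nat.card (Outer M z) ≤ Nat.card (Dz M z) := by
      refine Nat.card_le_card_of_injective
        (fun h => (⟨h₁ * h, hcon h h.2, mul_mem hh₁.1 h.2.1⟩ : Dz M z)) fun h h' e => ?_
      exact Subtype.ext (mul_left_cancel (congrArg Subtype.val e))
    have := S.card_centralizer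
    omega
  intro d hd
  rcases eq_or_ne d 1 with h | h
  · exact Or.inl h
  refine Or.inr (S.eq_z hd (ord_of_sq ?_ h))
  have h3 : h₁ * h₂ ∈ Outer M z := ⟨mul_mem hh₁.1 hh₂.1, hne⟩
  have e1 := S.outer_inverts h3 hd
  nth_rewrite 2 [← inv_of_ord (S.ord_outer h3)] at e1
  have e2 : h₁ * h₂ * d * (h₁ * h₂)⁻¹ = d := by
    rw [mul_inv_rev, inv_of_ord (S.ord_outer hh₁), inv_of_ord (S.ord_outer hh₂),
      show h₁ * h₂ * d * (h₂ * h₁) = h₁ * (h₂ * d * h₂) * h₁ by simp only [mul_assoc],
      S.outer_inverts hh₂ hd, S.outer_inverts hh₁ (inv_mem hd), inv_inv]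
  rw [e2] at e1
  nth_rewrite 1 [e1]
  exact inv_mul_cancel d

theorem card_D_two (hH : 2 * Nat.card (Dz M z) < Nat.card (centralizer ({z} : Set G))) :
    Nat.card (Dz M z) = 2 := by
  have hle : Dz M z = zpowers z := by
    refine le_antisymm (fun d hd => ?_) (zpowers_le.2 S.zD)
    rcases S.D_le_of_big hH d hd with rfl | rfl
    · exact one_mem _
    · exact mem_zpowers _
  rw [hle, Nat.card_zpowers, S.ordz]

theorem sq_centralizer (hH : 2 * Nat.card (Dz M z) < Nat.card (centralizer ({z} : Set G)))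
    {c : G} (hc : c ∈ centralizer ({z} : Set G)) : c * c = 1 := by
  by_cases hN : c ∈ normalizer (M : Set G)
  · rcases S.D_le_of_big hH c ⟨hN, hc⟩ with rfl | rfl
    · exact mul_one _
    · exact S.zz
  · exact sq_of_ord (S.ord_outer ⟨hc, hN⟩)

theorem comm_centralizer (hH : 2 * Nat.card (Dz M z) < Nat.card (centralizer ({z} : Set G)))
    {c d : G} (hc : c ∈ centralizer ({z} : Set G)) (hd : d ∈ centralizer ({z} : Set G)) :
    c * d = d * c := by
  have h := S.sq_centralizer hH (mul_mem hc hd)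
  have hc' := S.sq_centralizer hH hc
  have hd' := S.sq_centralizer hH hd
  calc c * d = (c * d)⁻¹ := (inv_eq_of_mul_eq_one_right h).symm
    _ = d * c := by rw [mul_inv_rev, inv_eq_of_mul_eq_one_right hc', inv_eq_of_mul_eq_one_right hd']

/-- The numerical data. -/
theorem bigData (hH : 2 * Nat.card (Dz M z) < Nat.card (centralizer ({z} : Set G))) :
    ∃ d, 1 ≤ d ∧ Nat.card (centralizer ({z} : Set G)) = 2 ^ (d + 1) ∧
      Nat.card {g : G // orderOf g = 2} = Nat.card M * (2 ^ (d + 1) - 1) ∧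
      ((Nat.card M = 2 ^ d + 1 ∧ Nat.card G = 2 * (2 ^ d * 2 ^ d) * Nat.card M) ∨
        (Nat.card M = 2 ^ (d + 1) + 1 ∧
          Nat.card G = (2 ^ (d + 1) + 1) * (2 ^ (d + 1) * (2 ^ (d + 1) - 1)) ∧
          (centralizer ({z} : Set G)).index = Nat.card {g : G // orderOf g = 2})) := by
  have h2 := S.card_D_two hH
  haveI : Fact (Nat.Prime 2) := ⟨Nat.prime_two⟩
  have hP : IsPGroup 2 (centralizer ({z} : Set G)) := fun c =>
    ⟨1, Subtype.ext (by
      rw [pow_one, pow_two, Subgroup.coe_mul]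
      exact S.sq_centralizer hH c.2)⟩
  obtain ⟨e, he⟩ := IsPGroup.iff_card.mp hP
  rw [h2, he] at hH
  obtain ⟨d, rfl⟩ : ∃ d, e = d + 1 := ⟨e - 1, by rcases e with _ | e <;> simp_all⟩
  have hd1 : 1 ≤ d := by
    rcases d with _ | d
    · norm_num at hH
    · omega
  have hs : Nat.card (Outer M z) + 2 = 2 ^ (d + 1) := by
    rw [← he, S.card_centralizer, h2]; omega
  have hn : Nat.card {g : G // orderOf g = 2} = Nat.card M * (2 ^ (d + 1) - 1) := by
    rw [S.card_involutions, show 2 ^ (d + 1) - 1 = Nat.card (Outer M z) + 1 by omega]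
    ring
  refine ⟨d, hd1, he, hn, ?_⟩
  have hG := S.card_group
  rw [h2] at hG
  have hidx := (centralizer ({z} : Set G)).card_mul_index
  rw [he] at hidx
  set I := (centralizer ({z} : Set G)).index with hI
  have hle : I ≤ Nat.card {g : G // orderOf g = 2} := by
    refine Nat.card_le_card_of_injective
      (fun c : G ⧸ centralizer ({z} : Set G) => (⟨c.out * z * c.out⁻¹, by
        rw [ord_conj]; exact S.ordz⟩ : {g : G // orderOf g = 2})) fun c c' h => ?_
    have h1 : c.out * z * c.out⁻¹ = c'.out * z * c'.out⁻¹ := congrArg Subtype.val h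
    rw [← QuotientGroup.out_eq' c, ← QuotientGroup.out_eq' c', QuotientGroup.eq,
      mem_centralizer_singleton_iff]
    calc c.out⁻¹ * c'.out * z = c.out⁻¹ * (c'.out * z * c'.out⁻¹) * c'.out := by group
      _ = c.out⁻¹ * (c.out * z * c.out⁻¹) * c'.out := by rw [h1]
      _ = z * (c.out⁻¹ * c'.out) := by group
  rw [hn] at hle
  set m := Nat.card M with hm
  set q := 2 ^ d with hq
  have hq2 : 2 ≤ q := le_trans (by norm_num) (Nat.pow_le_pow_right two_pos hd1)
  have hpq : 2 ^ (d + 1) = 2 * q := by rw [hq, pow_succ]; ring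
  rw [hpq] at hidx hs hle ⊢
  have hs' : Nat.card (Outer M z) = 2 * q - 2 := by omega
  obtain ⟨q', hq'⟩ : ∃ q', q = q' + 2 := ⟨q - 2, by omega⟩
  have hmodd := S.odd_card
  have hm1 := S.one_lt_card
  have hdvd : q ∣ 1 + m * (q - 1) := by
    have h1 : q ∣ m * (1 + m * (q - 1)) := by
      refine ⟨I, ?_⟩
      rw [hs'] at hG
      have e1 : 2 * q - 2 = 2 * (q - 1) := by omega
      rw [e1, ← hidx] at hG
      refine Nat.eq_of_mul_eq_mul_left (two_pos : 0 < 2) ?_
      linarith
    refine (Nat.Coprime.dvd_of_dvd_mul_left ?_ h1)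
    exact Nat.Coprime.pow_left d (Nat.coprime_two_left.2 hmodd)
  obtain ⟨t, ht⟩ : ∃ t, m = t * q + 1 := by
    have h1 : q ∣ (m - 1) := by
      have h3 : 1 + m * (q - 1) + (m - 1) = m * q := by
        rw [hq', show q' + 2 - 1 = q' + 1 by omega]
        have : 1 + (m - 1) = m := by omega
        linarith
      exact (Nat.dvd_add_right hdvd).1 (h3 ▸ dvd_mul_left q m)
    obtain ⟨t, ht⟩ := h1
    exact ⟨t, by rw [mul_comm]; omega⟩
  rw [hs', ← hidx, show 2 * q - 2 = 2 * (q' + 1) by omega] at hG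
  rw [show 2 * q - 1 = 2 * q' + 3 by omega] at hle
  have ht2 : t ≤ 2 := by
    by_contra hcon
    have h3 : 3 ≤ t := by omega
    have hI' : I * q = m * (1 + m * (q' + 1)) := by
      refine Nat.eq_of_mul_eq_mul_left (two_pos : 0 < 2) ?_
      linarith
    have h4 : I * q ≤ m * (2 * q' + 3) * q := Nat.mul_le_mul_right q hle
    rw [hI'] at h4
    have h5 : 1 + m * (q' + 1) ≤ (2 * q' + 3) * q :=
      Nat.le_of_mul_le_mul_left (by linarith) (by omega : 0 < m)
    rw [ht, hq'] at h5
    nlinarith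
  interval_cases t
  · omega
  · refine Or.inl ⟨by omega, ?_⟩
    rw [show (Nat.card G) = 2 * q * I by linarith]
    have : I = q * m := by
      refine Nat.eq_of_mul_eq_mul_left (show 0 < 2 * q by omega) ?_
      rw [hG, ht, hq']
      ring
    rw [this]; ring
  · have hIv : I = m * (2 * q' + 3) := by
      refine Nat.eq_of_mul_eq_mul_left (show 0 < 2 * q by omega) ?_
      rw [hG, ht, hq']
      ring
    refine Or.inr ⟨by omega, ?_, ?_⟩
    · rw [← hidx, hIv, ht, hq', show 2 * (q' + 2) - 1 = 2 * q' + 3 by omega]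
      ring
    · rw [hn, hIv, hpq, show 2 * q - 1 = 2 * q' + 3 by omega]

end Setup

end Cfsg.Agent.LocalEvenD.TIInvol
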