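import Cfsg.Agent.Lib.Zassenhaus.Moebius

/-!
A group acting faithfully on a set, with translations, all scalings and a swap acting as
`r ↦ 1 / r` in suitable coordinates, is `GL(2, F)` modulo its centre.
-/

set_option autoImplicit false

namespace Cfsg.Agent.LocalEvenD.TIInvol

open MulAction OnePoint Matrix
open scoped MatrixGroups
open Cfsg.Agent.ZassNormal

variable {F : Type} [Field F] [DecidableEq F]

/-- The matrix `diag(e, 1)`. -/
def dilMat (e : F) (he : e ≠ 0) : GL (Fin 2) F :=
  Matrix.GeneralLinearGroup.mkOfDetNeZero !![e, 0; 0, 1] (by simp [det_fin_two, he])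

theorem dilMat_smul (e : F) (he : e ≠ 0) (c : OnePoint F) :
    (dilMat e he) • c = c.map (fun k => e * k) := by
  cases c with
  | infty => rw [OnePoint.smul_infty_eq_ite]; simp [dilMat]
  | coe k => rw [OnePoint.smul_some_eq_ite]; simp [dilMat]

theorem gl_two_decomp (A : GL (Fin 2) F) :
    ∃ (e : F) (he : e ≠ 0) (B : SL(2, F)), A = dilMat e he * SpecialLinearGroup.toGL B := by
  have hd : (A.1).det ≠ 0 := (Matrix.isUnit_iff_isUnit_det A.1).1 A.isUnit |>.ne_zero
  refine ⟨A.1.det, hd, ⟨!![A.1 0 0 / A.1.det, A.1 0 1 / A.1.det; A.1 1 0, A.1 1 1], ?_⟩, ?_⟩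
  · rw [det_fin_two_of, div_mul_eq_mul_div, div_mul_eq_mul_div, ← sub_div, ← det_fin_two,
      div_self hd]
  · apply Units.ext
    change A.1 = (dilMat _ hd).1 *
      (!![A.1 0 0 / A.1.det, A.1 0 1 / A.1.det; A.1 1 0, A.1 1 1] : Matrix (Fin 2) (Fin 2) F)
    ext i j
    fin_cases i <;> fin_cases j <;>
      simp [dilMat, Matrix.mul_apply, Fin.sum_univ_two, mul_div_cancel₀ _ hd]

variable {G Ω : Type*} [Group G] [MulAction G Ω] [FaithfulSMul G Ω] {a b : Ω} (τ : F → G)

/-- **Recognition of `GL(2, F)` modulo its centre.** -/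
theorem nonempty_equiv_pgl (hab : a ≠ b) (hτ : ∀ r s, τ (r + s) = τ r * τ s)
    (hτa : ∀ r, τ r • a = a) (hreg : ∀ c : Ω, c ≠ a → ∃! r, τ r • b = c)
    (hscale : ∀ s : F, s ≠ 0 → ∃ x : G, x • a = a ∧ ∀ r, x • τ r • b = τ (s * r) • b)
    (hgen : ∀ g : G, g • a = a → g • b = b →
      ∃ s : F, s ≠ 0 ∧ ∀ r, g • τ r • b = τ (s * r) • b)
    {w : G} (hwa : w • a = b) (hwb : w • b = a)
    (hw : ∀ r : F, r ≠ 0 → w • τ r • b = τ r⁻¹ • b) :
    Nonempty (G ≃* (GL (Fin 2) F ⧸ Subgroup.center (GL (Fin 2) F))) := by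
  have hτ0 : τ 0 = 1 := by
    have h := hτ 0 0
    rw [add_zero] at h
    exact mul_eq_left.1 h.symm
  have hne : ∀ r, τ r • b ≠ a := fun r h =>
    hab ((MulAction.injective (τ r) (h.trans (hτa r).symm)).symm)
  set φ : OnePoint F → Ω := pointMap a b τ with hφ
  have hφi : φ ∞ = a := rfl
  have hφc : ∀ r : F, φ r = τ r • b := fun r => rfl
  have hφ0 : φ ((0 : F) : OnePoint F) = b := by rw [hφc, hτ0, one_smul]
  have hinj : Function.Injective φ := by
    intro c d h
    cases c with
    | infty =>
      cases d with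
      | infty => rfl
      | coe s => exact absurd h.symm (hne s)
    | coe r =>
      cases d with
      | infty => exact absurd h (hne r)
      | coe s => exact congrArg _ ((hreg _ (hne s)).unique h rfl)
  have hsurj : Function.Surjective φ := by
    intro c
    by_cases hc : c = a
    · exact ⟨∞, by rw [hφi, hc]⟩
    · obtain ⟨r, hr, -⟩ := hreg c hc
      exact ⟨r, hr⟩
  -- every matrix is realised by a group element
  have hD' : ∀ (e : F) (he : e ≠ 0),
      ∃ g : G, ∀ c, g • φ c = φ ((dilMat e he) • c) := by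
    intro e he
    obtain ⟨x, hxa, hx⟩ := hscale e he
    refine ⟨x, fun c => ?_⟩
    rw [dilMat_smul]
    cases c with
    | infty => exact hxa
    | coe k => exact hx k
  have hSL : ∀ A : SL(2, F), ∃ g : G, ∀ c, g • φ c = φ ((SpecialLinearGroup.toGL A) • c) := by
    have hmul : ∀ A B : SL(2, F),
        (∃ g : G, ∀ c, g • φ c = φ ((SpecialLinearGroup.toGL A) • c)) →
        (∃ g : G, ∀ c, g • φ c = φ ((SpecialLinearGroup.toGL B) • c)) →
        ∃ g : G, ∀ c, g • φ c = φ ((SpecialLinearGroup.toGL (A * B)) • c) := by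
      rintro A B ⟨g, hg⟩ ⟨k, hk⟩
      exact ⟨g * k, fun c => by rw [mul_smul, hk, hg, map_mul, mul_smul]⟩
    have hT : ∀ r : F, ∃ g : G, ∀ c, g • φ c = φ ((SpecialLinearGroup.toGL (transMat r)) • c) := by
      refine fun r => ⟨τ r, fun c => ?_⟩
      rw [transMat_smul]
      cases c with
      | infty => exact hτa r
      | coe k =>
        show τ r • τ k • b = φ ((k + r : F) : OnePoint F)
        rw [hφc, ← mul_smul, ← hτ, add_comm]
    have hD : ∀ (s : F) (hs : s ≠ 0),
        ∃ g : G, ∀ c, g • φ c = φ ((SpecialLinearGroup.toGL (diagMat s hs)) • c) := by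
      intro s hs
      obtain ⟨x, hxa, hx⟩ := hscale (s ^ 2) (pow_ne_zero 2 hs)
      refine ⟨x, fun c => ?_⟩
      rw [diagMat_smul]
      cases c with
      | infty => exact hxa
      | coe k => exact hx k
    have hW : ∃ g : G, ∀ c, g • φ c = φ ((SpecialLinearGroup.toGL (weylMat (F := F))) • c) := by
      obtain ⟨x, hxa, hx⟩ := hscale (-1) (neg_ne_zero.2 one_ne_zero)
      have hxb : x • b = b := by
        have h := hx 0
        rwa [hτ0, one_smul, mul_zero, hτ0, one_smul] at h
      refine ⟨x * w, fun c => ?_⟩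
      cases c with
      | infty =>
        rw [weylMat_smul_infty, hφ0, hφi, mul_smul, hwa]
        exact hxb
      | coe k =>
        by_cases hk : k = 0
        · rw [hk, weylMat_smul_zero, hφ0, mul_smul, hwb, hφi]
          exact hxa
        · rw [weylMat_smul_coe hk, hφc, hφc, mul_smul, hw k hk, hx, neg_one_mul]
    intro A
    rcases sl_two_decomp A with ⟨s, r, hs, rfl⟩ | ⟨t, s, r, hs, rfl⟩
    · exact hmul _ _ (hD s hs) (hT r)
    · exact hmul _ _ (hmul _ _ (hT t) hW) (hmul _ _ (hD s hs) (hT r))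
  have hP : ∀ A : GL (Fin 2) F, ∃ g : G, ∀ c, g • φ c = φ (A • c) := by
    intro A
    obtain ⟨e, he, B, rfl⟩ := gl_two_decomp A
    obtain ⟨g, hg⟩ := hD' e he
    obtain ⟨k, hk⟩ := hSL B
    exact ⟨g * k, fun c => by rw [mul_smul, hk, hg, mul_smul]⟩
  choose f hf using hP
  have hext : ∀ g k : G, (∀ c, g • φ c = k • φ c) → g = k := by
    intro g k h
    refine eq_of_smul_eq_smul fun d : Ω => ?_
    obtain ⟨c, rfl⟩ := hsurj d
    exact h c
  let Φ : GL (Fin 2) F →* G :=
    MonoidHom.mk' f fun A B => hext _ _ fun c => by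
      rw [mul_smul, hf, hf, hf, mul_smul]
  have hΦ : ∀ A c, Φ A • φ c = φ (A • c) := hf
  have hker : Φ.ker = Subgroup.center (GL (Fin 2) F) := by
    ext A
    rw [MonoidHom.mem_ker, GeneralLinearGroup.mem_center_iff_val_mem_range_scalar]
    constructor
    · intro hA
      have hfix : ∀ c : OnePoint F, A • c = c := fun c =>
        hinj (by rw [← hΦ, hA, one_smul])
      have hdet : A.1.det ≠ 0 := (Matrix.isUnit_iff_isUnit_det A.1).1 A.isUnit |>.ne_zero
      rw [det_fin_two] at hdet
      have hc : A.1 1 0 = 0 := smul_infty_eq_self_iff.1 (hfix ∞)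
      rw [hc, mul_zero, sub_zero] at hdet
      have hd : A.1 1 1 ≠ 0 := right_ne_zero_of_mul hdet
      have h0 := hfix ((0 : F) : OnePoint F)
      have h1 := hfix ((1 : F) : OnePoint F)
      rw [OnePoint.smul_some_eq_ite] at h0 h1
      simp [hc, hd] at h0 h1
      rw [h0, add_zero, div_eq_one_iff_eq hd] at h1
      refine ⟨A.1 0 0, ?_⟩
      ext i j
      fin_cases i <;> fin_cases j <;> simp [hc, h0, ← h1]
    · rintro ⟨r, hrA⟩
      refine hext _ _ fun c => ?_
      have hr0 : r ≠ 0 := by
        rintro rfl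
        exact (Matrix.isUnit_iff_isUnit_det A.1).1 A.isUnit |>.ne_zero (by rw [← hrA]; simp)
      rw [hΦ, one_smul]
      congr 1
      have e : ∀ i j, A.1 i j = scalar (Fin 2) r i j := fun i j => by rw [hrA]
      cases c with
      | infty => simp [OnePoint.smul_infty_eq_ite, e]
      | coe k => simp [OnePoint.smul_some_eq_ite, e, hr0]
  have hsurjΦ : Function.Surjective Φ := by
    have hTmem : ∀ r : F, τ r ∈ Φ.range := fun r =>
      ⟨SpecialLinearGroup.toGL (transMat r), hext _ _ fun c => by
        rw [hΦ, transMat_smul]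
        cases c with
        | infty => exact (hτa r).symm
        | coe k =>
          show φ ((k + r : F) : OnePoint F) = τ r • τ k • b
          rw [hφc, ← mul_smul, ← hτ, add_comm]⟩
    have hfix : ∀ g : G, g • a = a → g ∈ Φ.range := by
      intro g hga
      obtain ⟨r, hr, -⟩ := hreg (g • b) fun h =>
        hab ((MulAction.injective g (h.trans hga.symm)).symm)
      set g' := (τ r)⁻¹ * g
      have hga' : g' • a = a := by rw [mul_smul, hga, inv_smul_eq_iff, hτa]
      have hgb' : g' • b = b := by rw [mul_smul, inv_smul_eq_iff, hr]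
      obtain ⟨s, hs, hs'⟩ := hgen g' hga' hgb'
      have : g' ∈ Φ.range := ⟨dilMat s hs, hext _ _ fun c => by
        rw [hΦ, dilMat_smul]
        cases c with
        | infty => exact hga'.symm
        | coe k => exact (hs' k).symm⟩
      have h := Φ.range.mul_mem (hTmem r) this
      simpa [g'] using h
    intro g
    by_cases hga : g • a = a
    · exact hfix g hga
    · obtain ⟨r, hr, -⟩ := hreg (g • a) hga
      have hwmem : w ∈ Φ.range := by
        obtain ⟨x, hxa, hx⟩ := hscale (-1) (neg_ne_zero.2 one_ne_zero)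
        have hxb : x • b = b := by
          have h := hx 0
          rwa [hτ0, one_smul, mul_zero, hτ0, one_smul] at h
        have h1 : x * w ∈ Φ.range := ⟨SpecialLinearGroup.toGL weylMat, hext _ _ fun c => by
          rw [hΦ]
          cases c with
          | infty =>
            rw [weylMat_smul_infty, hφ0, hφi, mul_smul, hwa]
            exact hxb.symm
          | coe k =>
            by_cases hk : k = 0
            · rw [hk, weylMat_smul_zero, hφ0, mul_smul, hwb, hφi]
              exact hxa.symm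
            · rw [weylMat_smul_coe hk, hφc, hφc, mul_smul, hw k hk, hx, neg_one_mul]⟩
        have h2 := Φ.range.mul_mem (Φ.range.inv_mem (hfix x hxa)) h1
        rwa [inv_mul_cancel_left] at h2
      have h2 := Φ.range.mul_mem (Φ.range.mul_mem (hTmem r) hwmem) (hfix ((τ r * w)⁻¹ * g) (by
        rw [mul_smul, inv_smul_eq_iff, mul_smul, hwa, hr]))
      rwa [mul_inv_cancel_left] at h2
  exact ⟨((QuotientGroup.quotientMulEquivOfEq hker.symm).trans
    (QuotientGroup.quotientKerEquivOfSurjective Φ hsurjΦ)).symm⟩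

end Cfsg.Agent.LocalEvenD.TIInvol
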