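import Cfsg.Agent.LocalEvenD.TIInvol.Count
import Cfsg.Agent.LocalEvenD.TIInvol.PGL
import Cfsg.Agent.Lib.Zassenhaus.EvenPSL
import Cfsg.Agent.Lib.Frobenius.FixedPointFree
import Cfsg.Prelude.Def_Transfer

/-!
The case `|C(z) : C(z) ∩ N(M)| = 2`: `G` is `PGL(2, q)` or `PSL(2, q)`.
-/

set_option autoImplicit false
set_option linter.unusedSectionVars false

namespace Cfsg.Agent.LocalEvenD.TIInvol

open Subgroup MulAction
open Cfsg.Agent.CharDeep

variable {G : Type*} [Group G]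

theorem smul_mk_eq_iff {N : Subgroup G} {g x : G} :
    g • (x : G ⧸ N) = (x : G ⧸ N) ↔ x⁻¹ * g * x ∈ N := by
  rw [MulAction.Quotient.smul_coe, eq_comm, QuotientGroup.eq, smul_eq_mul, mul_assoc]

theorem stab_mk_one (N : Subgroup G) : stabilizer G ((1 : G) : G ⧸ N) = N := by
  ext g
  rw [mem_stabilizer_iff, smul_mk_eq_iff]
  simp

variable {M : Subgroup G} {z : G}

local notation "Ωm" => G ⧸ normalizer (M : Set G)

namespace Setup

variable [Finite G] (S : Setup G M z)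
  (hH : Nat.card (centralizer ({z} : Set G)) = 2 * Nat.card (Dz M z))

include S hH

theorem card_group_B :
    Nat.card G = Nat.card M * Nat.card (Dz M z) * (Nat.card M + 1) ∧
      Nat.card (Outer M z) = Nat.card (Dz M z) := by
  have h := S.card_centralizer
  have h2 : Nat.card (Outer M z) = Nat.card (Dz M z) := by omega
  refine ⟨?_, h2⟩
  rw [S.card_group, h2]
  ring

theorem index_B : (normalizer (M : Set G)).index = Nat.card M + 1 := by
  have h := (normalizer (M : Set G)).card_mul_index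
  rw [(S.card_group_B hH).1, S.card_normalizer] at h
  exact Nat.eq_of_mul_eq_mul_left (Nat.mul_pos Nat.card_pos Nat.card_pos) h

theorem inv_bound :
    Nat.card M + 1 ≤ 2 * Nat.card (Dz M z) + 2 ∧
      (2 * Nat.card (Dz M z) + 1 = Nat.card M → ∀ v : G, orderOf v = 2 → ∃ g : G, v = g * z * g⁻¹) := by
  classical
  have : Fintype G := Fintype.ofFinite G
  let f : G ⧸ centralizer ({z} : Set G) → {g : G // orderOf g = 2} := fun c =>
    ⟨c.out * z * c.out⁻¹, by rw [ord_conj]; exact S.ordz⟩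
  have hf : Function.Injective f := by
    intro c c' h
    have h1 : c.out * z * c.out⁻¹ = c'.out * z * c'.out⁻¹ := congrArg Subtype.val h
    rw [← QuotientGroup.out_eq' c, ← QuotientGroup.out_eq' c', QuotientGroup.eq,
      mem_centralizer_singleton_iff]
    calc c.out⁻¹ * c'.out * z = c.out⁻¹ * (c'.out * z * c'.out⁻¹) * c'.out := by group
      _ = c.out⁻¹ * (c.out * z * c.out⁻¹) * c'.out := by rw [h1]
      _ = z * (c.out⁻¹ * c'.out) := by group
  have hidx : 2 * (centralizer ({z} : Set G)).index = Nat.card M * (Nat.card M + 1) := by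
    have h := (centralizer ({z} : Set G)).card_mul_index
    rw [(S.card_group_B hH).1, hH] at h
    refine Nat.eq_of_mul_eq_mul_left (Nat.card_pos (α := Dz M z)) ?_
    linarith
  have hn : Nat.card {g : G // orderOf g = 2} = Nat.card M + Nat.card M * Nat.card (Dz M z) := by
    rw [S.card_involutions, (S.card_group_B hH).2]
  have hle := Nat.card_le_card_of_injective f hf
  rw [hn, ← Subgroup.index] at hle
  have hm : 0 < Nat.card M := Nat.card_pos
  refine ⟨Nat.le_of_mul_le_mul_left ?_ hm, fun he v hv => ?_⟩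
  · linarith
  · have hsurj : Function.Surjective f := by
      have := Fintype.ofFinite (G ⧸ centralizer ({z} : Set G))
      refine ((Fintype.bijective_iff_injective_and_card f).2 ⟨hf, ?_⟩).2
      rw [← Nat.card_eq_fintype_card, ← Nat.card_eq_fintype_card, hn, ← Subgroup.index]
      rw [← he] at hidx ⊢
      linarith
    obtain ⟨c, hc⟩ := hsurj ⟨v, hv⟩
    exact ⟨c.out, (congrArg Subtype.val hc).symm⟩

variable {u : G} (hu : u ∈ Outer M z)

include hu

omit hH in
theorem u_smul : u • ((1 : G) : Ωm) = (u : Ωm) ∧ u • (u : Ωm) = ((1 : G) : Ωm) := by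
  constructor
  · rw [MulAction.Quotient.smul_coe, smul_eq_mul, mul_one]
  · rw [MulAction.Quotient.smul_coe, smul_eq_mul, sq_of_ord (S.ord_outer hu)]

omit hH in
theorem mk_ne : ((1 : G) : Ωm) ≠ (u : Ωm) := fun h => hu.2 (by simpa using QuotientGroup.eq.mp h)

omit hH in
theorem two_eq_D : Zass.two G ((1 : G) : Ωm) (u : Ωm) = Dz M z := by
  have hu' := inv_of_ord (S.ord_outer hu)
  ext g
  rw [Zass.mem_two, smul_mk_eq_iff, smul_mk_eq_iff, inv_one, one_mul, mul_one, hu']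
  refine ⟨fun h => S.eq_of_conj_mem hu h.1 h.2, fun h => ⟨h.1, ?_⟩⟩
  rw [S.outer_inverts hu h]
  exact inv_mem h.1

omit hH hu in
theorem M_fix_a {x : G} (hx : x ∈ M) : x • ((1 : G) : Ωm) = ((1 : G) : Ωm) := by
  rw [smul_mk_eq_iff]
  simpa using le_normalizer hx

omit hH in
theorem M_inj {x y : G} (hx : x ∈ M) (hy : y ∈ M) (h : x • (u : Ωm) = y • (u : Ωm)) : x = y := by
  rw [MulAction.Quotient.smul_coe, MulAction.Quotient.smul_coe, QuotientGroup.eq, smul_eq_mul,
    smul_eq_mul, mul_inv_rev, inv_of_ord (S.ord_outer hu)] at h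
  exact inv_mul_eq_one.1 (S.inf_conj hu.2 (S.ord_outer hu) (mul_mem (inv_mem hx) hy)
    (by simpa [mul_assoc] using h))

theorem M_trans {c : Ωm} (hc : c ≠ ((1 : G) : Ωm)) : ∃ x ∈ M, x • (u : Ωm) = c := by
  classical
  have := Fintype.ofFinite Ωm
  have := Fintype.ofFinite M
  let f : M → {c : Ωm // c ≠ ((1 : G) : Ωm)} := fun x => ⟨(x : G) • (u : Ωm), fun h =>
    S.mk_ne hu (MulAction.injective (x : G) ((S.M_fix_a x.2).trans h.symm))⟩
  have hf : Function.Injective f := fun x y h =>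
    Subtype.ext (S.M_inj hu x.2 y.2 (congrArg Subtype.val h))
  have hb := ((Fintype.bijective_iff_injective_and_card f).2 ⟨hf, by
    rw [Fintype.card_subtype_compl, Fintype.card_subtype_eq, ← Nat.card_eq_fintype_card,
      ← Nat.card_eq_fintype_card, ← Subgroup.index, S.index_B hH, Nat.add_sub_cancel]⟩).2
  obtain ⟨x, hx⟩ := hb ⟨c, hc⟩
  exact ⟨x, x.2, congrArg Subtype.val hx⟩

theorem M_fix {x : G} (hx : x ∈ M) (hx1 : x ≠ 1) (c : Ωm) (hc : x • c = c) :
    c = ((1 : G) : Ωm) := by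
  by_contra hne
  obtain ⟨y, hy, rfl⟩ := S.M_trans hH hu hne
  rw [← mul_smul] at hc
  have h := S.M_inj hu (mul_mem hx hy) hy hc
  exact hx1 (mul_eq_right.1 h)

theorem pretrans2 : IsMultiplyPretransitive G Ωm 2 := by
  have key : ∀ c d : Ωm, c ≠ d → ∃ g : G, g • ((1 : G) : Ωm) = c ∧ g • (u : Ωm) = d := by
    intro c d hcd
    obtain ⟨g, hg⟩ := exists_smul_eq G ((1 : G) : Ωm) c
    obtain ⟨y, hy, hyb⟩ := S.M_trans hH hu (c := g⁻¹ • d)
      (fun h => hcd (by rw [← hg, ← h, smul_inv_smul]))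
    exact ⟨g * y, by rw [mul_smul, S.M_fix_a hy, hg], by rw [mul_smul, hyb, smul_inv_smul]⟩
  rw [is_two_pretransitive_iff]
  intro p q r s hpq hrs
  obtain ⟨g1, h1, h1'⟩ := key p q hpq
  obtain ⟨g2, h2, h2'⟩ := key r s hrs
  exact ⟨g2 * g1⁻¹, by rw [mul_smul, ← h1, inv_smul_smul, h2],
    by rw [mul_smul, ← h1', inv_smul_smul, h2']⟩

omit hH in
theorem commute_of_fix {d x : G} (hd : d ∈ Dz M z) (hx : x ∈ M)
    (h : d • x • (u : Ωm) = x • (u : Ωm)) : d * x = x * d := by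
  have hdb : d⁻¹ • (u : Ωm) = (u : Ωm) := by
    have := (S.two_eq_D hu).ge (inv_mem hd)
    exact this.2
  have h1 := S.M_inj hu (conjN hd.1 hx) hx (by rw [mul_smul, mul_smul, hdb, h])
  exact mul_inv_eq_iff_eq_mul.1 h1

/-- `D` acts fixed-point-freely on `M`. -/
theorem semiregular {d x : G} (hd : d ∈ Dz M z) (hd1 : d ≠ 1) (hx : x ∈ M)
    (h : d * x = x * d) : x = 1 := by
  by_contra hx1
  have hdz : d ≠ z := fun e => hx1 (S.eq_one_of_comm hx (e ▸ h).symm)
  set a : Ωm := ((1 : G) : Ωm) with ha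
  set b : Ωm := (u : Ωm) with hb
  obtain ⟨hua, hub⟩ : u • a = b ∧ u • b = a := S.u_smul hu
  obtain ⟨hda, hdb⟩ : d • a = a ∧ d • b = b := (S.two_eq_D hu).ge hd
  have hu2 := sq_of_ord (S.ord_outer hu)
  have hxb : x • b ≠ a := fun e =>
    S.mk_ne hu (MulAction.injective x ((S.M_fix_a hx).trans e.symm))
  have hne : u • x • b ≠ a := fun e => hx1 (S.M_inj hu hx M.one_mem (by
    rw [one_smul]
    exact MulAction.injective u (e.trans hub.symm)))
  obtain ⟨x', hx', hx'b⟩ := S.M_trans hH hu hne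
  have hdxb : d • x • b = x • b := by rw [← mul_smul, h, mul_smul, hdb]
  have hud : ∀ c : Ωm, d • u • c = u • d⁻¹ • c := fun c => by
    rw [← S.outer_inverts hu hd, mul_smul, mul_smul, ← mul_smul u u, hu2, one_smul]
  have hdx' : d * x' = x' * d := S.commute_of_fix hu hd hx' (by
    rw [hx'b, hud, inv_smul_eq_iff.2 hdxb.symm])
  set g := x'⁻¹ * (u * x * u) with hg
  have hga : g • a = b := by
    rw [hg, mul_smul, mul_smul, mul_smul, hua, inv_smul_eq_iff, hx'b]
  have hgd : g * d * g⁻¹ = d := by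
    have h2 : x * d⁻¹ * x⁻¹ = d⁻¹ := by
      rw [mul_inv_eq_iff_eq_mul]
      exact ((show Commute d x from h).inv_left).symm.eq
    have h3 : u * d⁻¹ * u = d := by rw [S.outer_inverts hu (inv_mem hd), inv_inv]
    calc g * d * g⁻¹ = x'⁻¹ * (u * (x * (u * d * u⁻¹) * x⁻¹) * u⁻¹) * x' := by rw [hg]; group
      _ = d := by
        rw [inv_of_ord (S.ord_outer hu), S.outer_inverts hu hd, h2, h3, mul_assoc, hdx',
          inv_mul_cancel_left]
  have hy : u * g ∈ normalizer (M : Set G) := by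
    have : (u * g) • a = a := by rw [mul_smul, hga, hub]
    rw [← mem_stabilizer_iff, ha, stab_mk_one] at this
    exact this
  obtain ⟨x0, hx0, d0, hd0, he⟩ := S.decomp hy
  have h4 : x0 * d * x0⁻¹ = d⁻¹ := by
    have h5 : d0 * d * d0⁻¹ = d := by rw [S.D_comm hd0 hd, mul_inv_cancel_right]
    calc x0 * d * x0⁻¹ = x0 * (d0 * d * d0⁻¹) * x0⁻¹ := by rw [h5]
      _ = (x0 * d0) * d * (x0 * d0)⁻¹ := by group
      _ = u * (g * d * g⁻¹) * u⁻¹ := by rw [← he]; group
      _ = d⁻¹ := by rw [hgd, inv_of_ord (S.ord_outer hu), S.outer_inverts hu hd]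
  have h6 : (x0 * (d * x0⁻¹ * d⁻¹)) * d = 1 * d⁻¹ := by
    rw [one_mul]
    conv_rhs => rw [← h4]
    group
  obtain ⟨-, hdd⟩ := S.decomp_unique (mul_mem hx0 (conjN hd.1 (inv_mem hx0))) M.one_mem hd
    (inv_mem hd) h6
  refine hdz (S.eq_z hd (ord_of_sq ?_ hd1))
  nth_rewrite 1 [hdd]
  exact inv_mul_cancel d

theorem isFPF : Frobenius.IsFPF (Dz M z) M := by
  refine ⟨inf_le_left, fun d hd hd1 => ?_⟩
  rw [eq_bot_iff]
  rintro x ⟨hx, hxc⟩
  exact mem_bot.2 (S.semiregular hH hu hd hd1 hx (mem_centralizer_singleton_iff.1 hxc).symm)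

theorem irreducible {X : Subgroup G} (hXM : X ≤ M)
    (hXn : Dz M z ≤ normalizer (X : Set G)) (hX : X ≠ ⊥) : X = M := by
  obtain ⟨k, hk⟩ := Subgroup.card_dvd_of_le hXM
  have hX1 : 1 < Nat.card X := (Subgroup.one_lt_card_iff_ne_bot X).2 hX
  have h1 := Nat.le_of_dvd (by omega) ((S.isFPF hH hu).mono_right hXM hXn).card_dvd_card_sub_one
  have h2 := (S.inv_bound hH).1
  have hodd := S.odd_card
  rw [hk, Nat.odd_mul] at hodd
  rcases Nat.lt_or_ge k 3 with hk3 | hk3
  · obtain ⟨j, hj⟩ := hodd.2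
    exact Subgroup.eq_of_le_of_card_ge hXM (by rw [hk, show k = 1 by omega, mul_one])
  · have := Nat.mul_le_mul_left (Nat.card X) hk3
    omega

theorem elementary {p : ℕ} (hp : p.Prime) (hdvd : p ∣ Nat.card M) :
    Cfsg.IsElementaryAbelian p M := by
  have := Fact.mk hp
  obtain ⟨x, hx⟩ := exists_prime_orderOf_dvd_card' (G := M) p hdvd
  let X : Subgroup G :=
    { carrier := {y | y ∈ M ∧ y ^ p = 1}
      one_mem' := ⟨one_mem _, one_pow _⟩
      mul_mem' := fun {a b} ha hb => ⟨mul_mem ha.1 hb.1, by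
        rw [(show Commute a b from S.comm ha.1 hb.1).mul_pow, ha.2, hb.2, one_mul]⟩
      inv_mem' := fun {a} ha => ⟨inv_mem ha.1, by rw [inv_pow, ha.2, inv_one]⟩ }
  have hXM : X ≤ M := fun y hy => hy.1
  have hXn : Dz M z ≤ normalizer (X : Set G) := by
    have hfor : ∀ d ∈ Dz M z, ∀ y ∈ X, d * y * d⁻¹ ∈ X := fun d hd y hy =>
      ⟨conjN hd.1 hy.1, by rw [conj_pow, hy.2, mul_one, mul_inv_cancel]⟩
    intro d hd
    rw [mem_normalizer_iff]
    refine fun y => ⟨hfor d hd y, fun hy => ?_⟩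
    have := hfor d⁻¹ (inv_mem hd) _ hy
    simpa [mul_assoc] using this
  have hXbot : X ≠ ⊥ := fun h => by
    have h1 : (x : G) ∈ X := ⟨x.2, by rw [← coe_pow, ← hx, pow_orderOf_eq_one, coe_one]⟩
    rw [h, mem_bot] at h1
    rw [Subtype.ext (h1.trans (coe_one M).symm), orderOf_one] at hx
    exact hp.one_lt.ne hx
  have hXe := S.irreducible hH hu hXM hXn hXbot
  exact ⟨⟨⟨fun a b => Subtype.ext (S.comm a.2 b.2)⟩⟩, fun a ha => (hXe.ge ha).2⟩

theorem faithful : FaithfulSMul G Ωm := ⟨fun {g k} h => by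
  have h' : ∀ c : Ωm, (k⁻¹ * g) • c = c := fun c => by rw [mul_smul, h, inv_smul_smul]
  by_contra hne
  have hgk : k⁻¹ * g ≠ 1 := fun e => hne (inv_mul_eq_one.1 e).symm
  have hd : k⁻¹ * g ∈ Dz M z := (S.two_eq_D hu).le ⟨h' _, h' _⟩
  obtain ⟨x, hx, hx1⟩ := (bot_or_exists_ne_one M).resolve_left S.ne_bot
  exact hx1 (S.semiregular hH hu hd hgk hx (S.commute_of_fix hu hd hx (h' _)))⟩

theorem three_point {g : G} {p q r : Ωm} (hpq : p ≠ q) (hqr : q ≠ r) (hpr : p ≠ r)
    (hp : g • p = p) (hq : g • q = q) (hr : g • r = r) : g = 1 := by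
  set a : Ωm := ((1 : G) : Ωm) with ha
  set b : Ωm := (u : Ωm) with hb
  obtain ⟨k, hka, hkb⟩ := is_two_pretransitive_iff.1 (S.pretrans2 hH hu) (S.mk_ne hu) hpq
  have hk : ∀ c : Ωm, g • c = c → (k⁻¹ * g * k) • (k⁻¹ • c) = k⁻¹ • c := fun c hc => by
    rw [mul_smul, mul_smul, smul_inv_smul, hc]
  have hp' := hk p hp
  have hq' := hk q hq
  rw [inv_smul_eq_iff.2 hka.symm] at hp'
  rw [inv_smul_eq_iff.2 hkb.symm] at hq'
  obtain ⟨x, hx, hxr⟩ := S.M_trans hH hu (c := k⁻¹ • r)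
    (fun e => hpr (by rw [← hka, ← e, smul_inv_smul]))
  have hr' := hk r hr
  rw [← hxr] at hr'
  have hd : k⁻¹ * g * k ∈ Dz M z := (S.two_eq_D hu).le ⟨hp', hq'⟩
  by_contra hg
  have hd1 : k⁻¹ * g * k ≠ 1 := fun e => hg (by
    simpa [mul_assoc] using congrArg (fun w => k * w * k⁻¹) e)
  have hx1 := S.semiregular hH hu hd hd1 hx (S.commute_of_fix hu hd hx hr')
  rw [hx1, one_smul] at hxr
  exact hqr (by rw [← hkb, hxr, smul_inv_smul])

theorem card_cases : Nat.card (Dz M z) + 1 = Nat.card M ∨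
    2 * Nat.card (Dz M z) + 1 = Nat.card M := by
  obtain ⟨k, hk⟩ := (S.isFPF hH hu).card_dvd_card_sub_one
  have h1 := (S.inv_bound hH).1
  have h2 := S.one_lt_card
  rcases k with _ | _ | _ | k
  · omega
  · omega
  · omega
  · exfalso
    have : Nat.card (Dz M z) * 3 ≤ Nat.card (Dz M z) * (k + 1 + 1 + 1) :=
      Nat.mul_le_mul_left _ (by omega)
    have : 0 < Nat.card (Dz M z) := Nat.card_pos
    omega

/-- The case `2 |D| + 1 = |M|`. -/
theorem psl_case (hd : 2 * Nat.card (Dz M z) + 1 = Nat.card M) :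
    ∃ (F : Type) (_ : Field F) (_ : Fintype F), Fintype.card F = Nat.card M ∧
      Fintype.card F % 4 = 1 ∧
      Nonempty (G ≃* Matrix.ProjectiveSpecialLinearGroup (Fin 2) F) := by
  classical
  haveI := Fintype.ofFinite G
  haveI := Fintype.ofFinite Ωm
  set a : Ωm := ((1 : G) : Ωm) with ha
  set b : Ωm := (u : Ωm) with hb
  have hall := (S.inv_bound hH).2 hd
  have hΩ : Fintype.card Ωm = Nat.card M + 1 := by
    rw [← Nat.card_eq_fintype_card]; exact S.index_B hH
  have heven : Even (Nat.card ↥(Zass.two G a b)) := by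
    rw [S.two_eq_D hu, even_iff_two_dvd, ← S.ordz, ← Subgroup.orderOf_mk z S.zD]
    exact orderOf_dvd_natCard _
  have h2t := S.pretrans2 hH hu
  haveI : IsPretransitive G Ωm := MulAction.isPretransitive_of_is_two_pretransitive
  have hZ : Cfsg.IsZassenhausGroup G Ωm := by
    refine ⟨S.faithful hH hu, h2t,
      fun g p q r hpq hqr hpr hp hq hr => S.three_point hH hu hpq hqr hpr hp hq hr,
      ⟨z, ne_one_of_ord S.ordz, a, b, S.mk_ne hu, (S.two_eq_D hu).ge S.zD⟩, fun N _ hN => ?_⟩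
    haveI := hN
    obtain ⟨j, hj⟩ := S.odd_card
    have hdvd : 2 ∣ Nat.card N := by
      have h1 := (stabilizer N a).index_dvd_card
      rw [MulAction.index_stabilizer,
        Set.eq_univ_of_forall (s := orbit N a) fun c => hN.exists_smul_eq a c, Set.ncard_univ,
        Nat.card_eq_fintype_card (α := Ωm), hΩ] at h1
      exact dvd_trans ⟨j + 1, by omega⟩ h1
    haveI : Fact (Nat.Prime 2) := ⟨Nat.prime_two⟩
    obtain ⟨v, hv⟩ := exists_prime_orderOf_dvd_card' (G := N) 2 hdvd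
    obtain ⟨g, hg⟩ := hall v (by rw [Subgroup.orderOf_coe]; exact hv)
    refine ⟨g • a, fun hbot => ?_⟩
    have hmem : v ∈ stabilizer N (g • a) := by
      show (v : G) • g • a = g • a
      rw [← mul_smul, hg, inv_mul_cancel_right, mul_smul,
        show z • a = a from ((S.two_eq_D hu).ge S.zD).1]
    rw [mem_bot.1 (hbot.le hmem), orderOf_one] at hv
    omega
  have hK : Zass.IsKernel a M :=
    ⟨fun x hx => S.M_fix_a hx, by omega, fun x hx hx1 c hc => S.M_fix hH hu hx hx1 c hc⟩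
  obtain ⟨F, iF, iFF, hF, -, -, hiso⟩ := ZassNormal.exists_psl hZ (S.mk_ne hu) hK heven (by
    rw [S.two_eq_D hu]; omega)
  refine ⟨F, iF, iFF, by omega, ?_, hiso⟩
  obtain ⟨j, hj⟩ := heven
  rw [S.two_eq_D hu] at hj
  omega

/-- The case `|D| + 1 = |M|`. -/
theorem pgl_case (hd : Nat.card (Dz M z) + 1 = Nat.card M) :
    ∃ (F : Type) (_ : Field F) (_ : Fintype F), Fintype.card F = Nat.card M ∧
      Nonempty (G ≃* (GL (Fin 2) F ⧸ Subgroup.center (GL (Fin 2) F))) := by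
  classical
  set T := Dz M z with hT
  set a : Ωm := ((1 : G) : Ωm) with ha
  set b : Ωm := (u : Ωm) with hb
  haveI := S.faithful hH hu
  letI : CommGroup M :=
    { (inferInstance : Group M) with mul_comm := fun x y => Subtype.ext (S.comm x.2 y.2) }
  let conjM : T → (M →* M) := fun x =>
    MonoidHom.mk' (fun v => ⟨(x : G) * v * (x : G)⁻¹, conjN x.2.1 v.2⟩)
      fun v w => Subtype.ext (by simp [mul_assoc])
  let θ : T → AddMonoid.End (Additive M) := fun x => MonoidHom.toAdditive (conjM x)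
  have hθ : ∀ (x : T) (v : Additive M),
      ((θ x v).toMul : G) = (x : G) * v.toMul * (x : G)⁻¹ := fun x v => rfl
  obtain ⟨x₁, hx₁, hx₁1⟩ := (bot_or_exists_ne_one M).resolve_left S.ne_bot
  have hirr : ∀ W : AddSubgroup (Additive M), (∀ t ∈ Set.range θ, ∀ w ∈ W, t w ∈ W) →
      W = ⊥ ∨ W = ⊤ := by
    intro W hW
    by_contra hcon
    push Not at hcon
    let X : Subgroup G := (AddSubgroup.toSubgroup' W).map M.subtype
    have hmemX : ∀ v : Additive M, v ∈ W → ((v.toMul : M) : G) ∈ X := fun v hv =>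
      ⟨v.toMul, hv, rfl⟩
    have hXM : X ≤ M := Subgroup.map_subtype_le _
    have hXn : T ≤ Subgroup.normalizer (X : Set G) := by
      have hfor : ∀ g ∈ T, ∀ x ∈ X, g * x * g⁻¹ ∈ X := by
        rintro g hg _ ⟨v, hv, rfl⟩
        exact hmemX _ (hW _ ⟨⟨g, hg⟩, rfl⟩ (Additive.ofMul v) hv)
      intro g hg
      rw [Subgroup.mem_normalizer_iff]
      refine fun x => ⟨hfor g hg x, fun hx => ?_⟩
      have := hfor g⁻¹ (T.inv_mem hg) _ hx
      simpa [mul_assoc] using this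
    have hXbot : X ≠ ⊥ := fun h => hcon.1 (by
      rw [AddSubgroup.eq_bot_iff_forall]
      intro v hv
      have := hmemX v hv
      rw [h, Subgroup.mem_bot] at this
      exact Additive.toMul.injective (Subtype.ext this))
    have hXe := S.irreducible hH hu hXM hXn hXbot
    exact hcon.2 (by
      rw [AddSubgroup.eq_top_iff']
      intro v
      obtain ⟨v', hv', he⟩ : ((v.toMul : M) : G) ∈ X := hXe.ge v.toMul.2
      rw [show v = Additive.ofMul v' from Additive.toMul.injective (Subtype.ext he.symm)]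
      exact hv')
  obtain ⟨F, instF, instFF, ι, -, hιT⟩ := ZassNormal.exists_field_model (T := Set.range θ) (by
    rintro _ ⟨x, rfl⟩ _ ⟨y, rfl⟩
    refine DFunLike.ext _ _ fun v => Additive.toMul.injective (Subtype.ext ?_)
    show ((θ x (θ y v)).toMul : G) = ((θ y (θ x v)).toMul : G)
    rw [hθ, hθ, hθ, hθ]
    calc (x : G) * ((y : G) * v.toMul * (y : G)⁻¹) * (x : G)⁻¹
        = ((x : G) * y) * v.toMul * ((x : G) * y)⁻¹ := by group
      _ = ((y : G) * x) * v.toMul * ((y : G) * x)⁻¹ := by rw [S.D_comm x.2 y.2]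
      _ = _ := by group) hirr (u := Additive.ofMul (⟨x₁, hx₁⟩ : M))
      (fun h => hx₁1 (congrArg (fun v => ((Additive.toMul v : M) : G)) h))
  refine ⟨F, instF, instFF, ?_⟩
  have hFcard : Fintype.card F = Nat.card M := by
    rw [← Nat.card_eq_fintype_card]
    exact (Nat.card_congr ι.toEquiv).trans (Nat.card_congr Additive.toMul)
  refine ⟨hFcard, ?_⟩
  let τ : F → G := fun r => ((ι r).toMul : G)
  have hτ : ∀ r s, τ (r + s) = τ r * τ s := fun r s => by simp only [τ, map_add, toMul_add]; rfl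
  have hτM : ∀ r, τ r ∈ M := fun r => (ι r).toMul.2
  have hτa : ∀ r, τ r • a = a := fun r => S.M_fix_a (hτM r)
  have hτinj : Function.Injective τ := fun r s h =>
    ι.injective (Additive.toMul.injective (Subtype.ext h))
  have hτ0 : τ 0 = 1 := by simp only [τ, map_zero]; rfl
  have hpt : ∀ r s, τ r • b = τ s • b → r = s := fun r s h =>
    hτinj (S.M_inj hu (hτM r) (hτM s) h)
  have hreg : ∀ c : Ωm, c ≠ a → ∃! r, τ r • b = c := by
    intro c hc
    obtain ⟨x, hx, hxc⟩ := S.M_trans hH hu hc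
    have hr : τ (ι.symm (Additive.ofMul ⟨x, hx⟩)) = x := by
      simp only [τ, AddEquiv.apply_symm_apply]; rfl
    refine ⟨ι.symm (Additive.ofMul ⟨x, hx⟩), by show _ • b = c; rw [hr]; exact hxc,
      fun s hs => hpt _ _ (hs.trans ?_)⟩
    rw [hr]; exact hxc.symm
  have hne : ∀ r, τ r • b ≠ a := fun r h =>
    S.mk_ne hu ((MulAction.injective (τ r) (h.trans (hτa r).symm)).symm)
  have hTab : ∀ x ∈ T, x • a = a ∧ x • b = b := fun x hx => (S.two_eq_D hu).ge hx
  have hj : ∀ x ∈ T, ∃ c : F, c ≠ 0 ∧ ∀ r, x • τ r • b = τ (c * r) • b := by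
    intro x hx
    obtain ⟨c, hc⟩ := hιT _ ⟨⟨x, hx⟩, rfl⟩
    have hc' : ∀ r, τ (c * r) = x * τ r * x⁻¹ := fun r => by
      simp only [τ, ← hc]; exact hθ _ _
    refine ⟨c, fun h => ?_, fun r => ?_⟩
    · have h1 := hc' 1
      rw [h, zero_mul, hτ0, eq_comm, conj_eq_one_iff, ← hτ0] at h1
      exact one_ne_zero (hτinj h1)
    · rw [hc', mul_smul, mul_smul, inv_smul_eq_iff.2 (hTab x hx).2.symm]
  choose j hj0 hjspec using hj
  have hjinj : ∀ x (hx : x ∈ T) y (hy : y ∈ T), j x hx = j y hy → x = y := by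
    intro x hx y hy h
    refine eq_of_smul_eq_smul fun c : Ωm => ?_
    by_cases hca : c = a
    · rw [hca, (hTab x hx).1, (hTab y hy).1]
    · obtain ⟨r, rfl, -⟩ := hreg c hca
      rw [hjspec x hx, hjspec y hy, h]
  have hsurj : ∀ s : F, s ≠ 0 → ∃ x, ∃ hx : x ∈ T, j x hx = s := by
    intro s hs
    let f : T → {c : F // c ≠ 0} := fun x => ⟨j x x.2, hj0 x x.2⟩
    haveI := Fintype.ofFinite T
    have hf : Function.Injective f := fun x y h =>
      Subtype.ext (hjinj x x.2 y y.2 (congrArg Subtype.val h))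
    obtain ⟨x, hx⟩ := ((Fintype.bijective_iff_injective_and_card f).2 ⟨hf, by
      rw [Fintype.card_subtype_compl, Fintype.card_subtype_eq, hFcard,
        ← Nat.card_eq_fintype_card]
      omega⟩).2 ⟨s, hs⟩
    exact ⟨x, x.2, congrArg Subtype.val hx⟩
  obtain ⟨hua, hub⟩ : u • a = b ∧ u • b = a := S.u_smul hu
  -- the image of `1` under the swap
  obtain ⟨γ, hγ, -⟩ := hreg (u • τ 1 • b) fun h => one_ne_zero (hpt 1 0 (by
    rw [hτ0, one_smul]
    exact MulAction.injective u (h.trans hub.symm)))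
  have hγ0 : γ ≠ 0 := fun h => by
    rw [h, hτ0, one_smul] at hγ
    exact hne 1 (MulAction.injective u (hγ.symm.trans hua.symm))
  have hf : ∀ r, r ≠ 0 → u • τ r • b = τ (r⁻¹ * γ) • b := by
    intro r hr
    obtain ⟨x, hx, hxr⟩ := hsurj r hr
    have hinv : ∀ t, x⁻¹ • τ t • b = τ (r⁻¹ * t) • b := fun t => by
      rw [inv_smul_eq_iff, hjspec x hx, hxr, mul_inv_cancel_left₀ hr]
    have hux : u * x = x⁻¹ * u := by
      rw [← S.outer_inverts hu hx, mul_assoc (u * x), sq_of_ord (S.ord_outer hu), mul_one]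
    have hxb : x • τ 1 • b = τ r • b := by rw [hjspec x hx, hxr, mul_one]
    rw [← hxb, ← mul_smul, hux, mul_smul, ← hγ, hinv]
  obtain ⟨x₀, hx₀, hjx₀⟩ := hsurj γ⁻¹ (inv_ne_zero hγ0)
  refine nonempty_equiv_pgl (a := a) (b := b) τ (S.mk_ne hu) hτ hτa hreg ?_ ?_ (w := x₀ * u)
    (by rw [mul_smul, hua, (hTab x₀ hx₀).2]) (by rw [mul_smul, hub, (hTab x₀ hx₀).1]) fun r hr => ?_
  · intro s hs
    obtain ⟨x, hx, hxs⟩ := hsurj s hs
    exact ⟨x, (hTab x hx).1, fun r => by rw [hjspec x hx, hxs]⟩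
  · intro g hga hgb
    have hgT : g ∈ T := (S.two_eq_D hu).le ⟨hga, hgb⟩
    exact ⟨j g hgT, hj0 g hgT, hjspec g hgT⟩
  · rw [mul_smul, hf r hr, hjspec x₀ hx₀, hjx₀, mul_comm r⁻¹, inv_mul_cancel_left₀ hγ0]

end Setup

end Cfsg.Agent.LocalEvenD.TIInvol
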