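import Cfsg.Agent.LocalEvenD.TIInvol.Basic

/-!
Every coset outside `N(M)` holds exactly one involution; the structure of `C(z)`.
-/

set_option autoImplicit false
set_option linter.unusedSectionVars false

namespace Cfsg.Agent.LocalEvenD.TIInvol

open Subgroup

/-- The elements of `C(z)` outside `N(M)`. -/
abbrev Outer {G : Type*} [Group G] (M : Subgroup G) (z : G) : Set G :=
  {h | h ∈ centralizer ({z} : Set G) ∧ h ∉ normalizer (M : Set G)}

namespace Setup

variable {G : Type*} [Group G] [Finite G] {M : Subgroup G} {z : G} (S : Setup G M z)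

include S

theorem count_aux :
    (∀ g, g ∉ normalizer (M : Set G) → ∃ x ∈ M, orderOf (g * x) = 2) ∧
      Nat.card {g : G // orderOf g = 2} * Nat.card M + Nat.card M * Nat.card (Dz M z) =
        Nat.card M * Nat.card M + Nat.card G := by
  classical
  have : Fintype G := Fintype.ofFinite G
  set N := normalizer (M : Set G) with hNdef
  set I := {v : G // orderOf v = 2 ∧ v ∉ N}
  set O := {g : G // g ∉ N}
  let f : I × M → O := fun p => ⟨p.1.1 * p.2, not_mem_mul p.1.2.2 p.2.2⟩
  have hf : Function.Injective f := by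
    rintro ⟨v, x⟩ ⟨v', x'⟩ h
    have h1 : (v : G) * x = v' * x' := congrArg Subtype.val h
    have h2 : (v' : G) = v * (x * (x' : G)⁻¹) := by rw [← mul_assoc, h1, mul_inv_cancel_right]
    have h3 : (x : G) * (x' : G)⁻¹ = 1 := S.unique_inv v.2.2 v.2.1
      (mul_mem x.2 (inv_mem x'.2)) (h2 ▸ v'.2.1)
    rw [h3, mul_one] at h2
    exact Prod.ext (Subtype.ext h2.symm) (Subtype.ext (mul_inv_eq_one.1 h3))
  have hn : Nat.card {g : G // orderOf g = 2} = Nat.card M + Nat.card I := by
    rw [← S.card_inv_normalizer, ← Nat.card_sum]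
    exact Nat.card_congr ((Equiv.sumCompl (fun v : {g : G // orderOf g = 2} => (v : G) ∈ N)).symm.trans
      (Equiv.sumCongr (Equiv.subtypeSubtypeEquivSubtypeInter _ _)
        (Equiv.subtypeSubtypeEquivSubtypeInter (fun g : G => orderOf g = 2) (fun g => g ∉ N))))
  have hO : Nat.card O + Nat.card M * Nat.card (Dz M z) = Nat.card G := by
    rw [← S.card_normalizer, add_comm, show Nat.card ↥N = Nat.card {g : G // g ∈ N} from rfl,
      ← Nat.card_sum]
    exact Nat.card_congr (Equiv.sumCompl (fun g : G => g ∈ N))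
  have hindex : M.index * Nat.card M = Nat.card G := by rw [mul_comm]; exact M.card_mul_index
  have hcount := Nat.mul_le_mul_right (Nat.card M) (Nat.succ_le_of_lt S.count)
  have hm : 0 < Nat.card M := Nat.card_pos
  have key : ∀ o : O, o ∈ Set.range f := by
    rintro ⟨g, hg⟩
    by_contra hmiss
    have hno : ∀ x ∈ M, orderOf (g * x) ≠ 2 := fun x hx h2 => hmiss
      ⟨(⟨g * x, h2, not_mem_mul hg hx⟩, ⟨x⁻¹, inv_mem hx⟩),
        Subtype.ext (mul_inv_cancel_right g x)⟩
    let k : M × M → O := fun p => ⟨p.1.1 * g * p.2, not_mem_mul (not_mem_mul' hg p.1.2) p.2.2⟩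
    have hk : Function.Injective k := by
      rintro ⟨a, b⟩ ⟨a', b'⟩ h
      have h1 : (a : G) * g * b = a' * g * b' := congrArg Subtype.val h
      have h2 : (a' : G)⁻¹ * a = g * ((b' : G) * (b : G)⁻¹) * g⁻¹ := by
        calc (a' : G)⁻¹ * a = (a' : G)⁻¹ * ((a : G) * g * b) * ((b : G)⁻¹ * g⁻¹) := by group
          _ = (a' : G)⁻¹ * ((a' : G) * g * b') * ((b : G)⁻¹ * g⁻¹) := by rw [h1]
          _ = _ := by group
      have h3 : (b' : G) * (b : G)⁻¹ = 1 := by
        by_contra hne
        exact hg (S.ti_mem (mul_mem b'.2 (inv_mem b.2)) hne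
          (h2 ▸ mul_mem (inv_mem a'.2) a.2))
      have hbb := (mul_inv_eq_one.1 h3).symm
      rw [h3, mul_one, mul_inv_cancel] at h2
      exact Prod.ext (Subtype.ext (inv_mul_eq_one.1 h2).symm) (Subtype.ext hbb)
    have hinj : Function.Injective (Sum.elim f k) := by
      refine hf.sumElim hk ?_
      rintro ⟨v, x⟩ ⟨a, b⟩ h
      have h1 : (v : G) * x = a * g * b := congrArg Subtype.val h
      refine hno ((b : G) * (x : G)⁻¹ * a) (mul_mem (mul_mem b.2 (inv_mem x.2)) a.2) ?_
      have h4 : g * ((b : G) * (x : G)⁻¹ * a) = (a : G)⁻¹ * v * (a : G)⁻¹⁻¹ := by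
        calc g * ((b : G) * (x : G)⁻¹ * a)
            = (a : G)⁻¹ * ((a : G) * g * b) * (x : G)⁻¹ * a := by group
          _ = (a : G)⁻¹ * ((v : G) * x) * (x : G)⁻¹ * a := by rw [h1]
          _ = _ := by group
      rw [h4, ord_conj]
      exact v.2.1
    have hle := Nat.card_le_card_of_injective _ hinj
    rw [Nat.card_sum, Nat.card_prod, Nat.card_prod] at hle
    rw [hn, Nat.succ_mul, add_mul] at hcount
    omega
  refine ⟨fun g hg => ?_, ?_⟩
  · obtain ⟨⟨v, x⟩, h⟩ := key ⟨g, hg⟩
    have h1 : (v : G) * x = g := congrArg Subtype.val h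
    exact ⟨(x : G)⁻¹, inv_mem x.2, by rw [← h1, mul_inv_cancel_right]; exact v.2.1⟩
  · have h := Nat.card_congr (Equiv.ofBijective f ⟨hf, key⟩)
    rw [Nat.card_prod] at h
    rw [hn, add_mul]
    omega

theorem cover {g : G} (hg : g ∉ normalizer (M : Set G)) : ∃ x ∈ M, orderOf (g * x) = 2 :=
  S.count_aux.1 g hg

/-- Every involution outside `N(M)` centralises an involution of `N(M)`. -/
theorem assoc_comm {v : G} (hv : v ∉ normalizer (M : Set G)) (hv2 : orderOf v = 2) :
    ∃ x ∈ M, v * (z * x) * v = z * x := by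
  have hvz : v * z ∉ normalizer (M : Set G) := fun h => hv <| by
    simpa [mul_assoc, S.zz] using mul_mem h S.zN
  obtain ⟨x, hx, h⟩ := S.cover hvz
  refine ⟨x, hx, ?_⟩
  have h1 := sq_of_ord h
  have h2 : (z * x) * (z * x) = 1 := by
    rw [show (z * x) * (z * x) = (z * x * z) * x by group, S.z_inv hx, inv_mul_cancel]
  calc v * (z * x) * v = v * (z * x) * v * ((z * x) * (z * x)) := by rw [h2, mul_one]
    _ = (v * z * x * (v * z * x)) * (z * x) := by simp only [mul_assoc]
    _ = z * x := by rw [h1, one_mul]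

theorem conj_to_cen {v : G} (hv : v ∉ normalizer (M : Set G)) (hv2 : orderOf v = 2) :
    ∃ y ∈ M, y⁻¹ * v * y ∈ Outer M z ∧ orderOf (y⁻¹ * v * y) = 2 := by
  obtain ⟨x, hx, h⟩ := S.assoc_comm hv hv2
  obtain ⟨y, hy, hyx⟩ := S.conj_z (inv_mem hx)
  have hzx : z * x = x⁻¹ * z := by
    calc z * x = z * x * z * z := by rw [mul_assoc (z * x), S.zz, mul_one]
      _ = x⁻¹ * z := by rw [S.z_inv hx]
  rw [hzx, ← hyx] at h
  refine ⟨y, hy, ⟨mem_centralizer_singleton_iff.2 ?_, fun h' => ?_⟩, ?_⟩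
  · have hc : v * (y * z * y⁻¹) = (y * z * y⁻¹) * v := by
      calc v * (y * z * y⁻¹) = v * (y * z * y⁻¹) * (v * v) := by rw [sq_of_ord hv2, mul_one]
        _ = (v * (y * z * y⁻¹) * v) * v := by simp only [mul_assoc]
        _ = _ := by rw [h]
    calc y⁻¹ * v * y * z = y⁻¹ * (v * (y * z * y⁻¹)) * y := by group
      _ = y⁻¹ * ((y * z * y⁻¹) * v) * y := by rw [hc]
      _ = z * (y⁻¹ * v * y) := by group
  · have h2 := mul_mem (mul_mem (le_normalizer hy) h') (inv_mem (le_normalizer hy))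
    rw [show y * (y⁻¹ * v * y) * y⁻¹ = v by group] at h2
    exact hv h2
  · have := ord_conj y⁻¹ v
    rwa [inv_inv, hv2] at this

/-- `M` meets `N(M)` conjugated by an outer involution trivially. -/
theorem inf_conj {v a : G} (hv : v ∉ normalizer (M : Set G)) (hv2 : orderOf v = 2) (ha : a ∈ M)
    (h : v * a * v ∈ normalizer (M : Set G)) : a = 1 := by
  have base : ∀ h : G, h ∈ Outer M z → orderOf h = 2 → ∀ a ∈ M,
      h * a * h ∈ normalizer (M : Set G) → a = 1 := by
    intro h hh hh2 a ha hb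
    have hhz : h * z = z * h := mem_centralizer_singleton_iff.1 hh.1
    obtain ⟨x, hx, d, hd, hbe⟩ := S.decomp hb
    have hdz : d * z = z * d := mem_centralizer_singleton_iff.1 hd.2
    have h1 : z * (h * a * h) * z = (h * a * h)⁻¹ := by
      calc z * (h * a * h) * z = (z * h) * a * (h * z) := by simp only [mul_assoc]
        _ = (h * z) * a * (z * h) := by rw [hhz]
        _ = h * (z * a * z) * h := by simp only [mul_assoc]
        _ = (h * a * h)⁻¹ := by
          rw [S.z_inv ha, mul_inv_rev, mul_inv_rev, inv_of_ord hh2, mul_assoc]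
    rw [hbe] at h1
    have h2 : x⁻¹ * d = (d⁻¹ * x⁻¹ * d) * d⁻¹ := by
      have h3 : z * (x * d) * z = x⁻¹ * d := by
        rw [show z * (x * d) * z = z * x * (d * z) by simp only [mul_assoc], hdz,
          show z * x * (z * d) = z * x * z * d by simp only [mul_assoc], S.z_inv hx]
      rw [← h3, h1]; group
    obtain ⟨-, hdd⟩ := S.decomp_unique (inv_mem hx) (conjN' hd.1 (inv_mem hx)) hd (inv_mem hd) h2
    by_contra ha1
    rcases eq_or_ne d 1 with rfl | hd1
    · refine hh.2 (S.ti_mem ha ha1 ?_)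
      rw [inv_of_ord hh2, hbe, mul_one]; exact hx
    · have hdd' : d * d = 1 := by nth_rewrite 2 [hdd]; exact mul_inv_cancel d
      rw [S.eq_z hd (ord_of_sq hdd' hd1)] at hbe
      have h4 := sq_of_ord (S.ord_mul_z hx)
      rw [← hbe] at h4
      refine ha1 (S.eq_one_of_sq ha ?_)
      calc a * a = h * (h * a * h * (h * a * h)) * h := by
            simp only [mul_assoc, sq_of_ord hh2, mul_one]
            simp only [← mul_assoc, sq_of_ord hh2, one_mul]
        _ = 1 := by rw [h4, mul_one, sq_of_ord hh2]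
  obtain ⟨y, hy, hO, h2⟩ := S.conj_to_cen hv hv2
  refine base _ hO h2 a ha ?_
  have hya : y * a * y⁻¹ = a := by rw [S.comm hy ha, mul_inv_cancel_right]
  rw [show y⁻¹ * v * y * a * (y⁻¹ * v * y) = y⁻¹ * (v * (y * a * y⁻¹) * v) * y by group, hya]
  exact mul_mem (mul_mem (inv_mem (le_normalizer hy)) h) (le_normalizer hy)

/-- The elements of `C(z)` outside `N(M)` are involutions. -/
theorem ord_outer {h : G} (hh : h ∈ Outer M z) : orderOf h = 2 := by
  obtain ⟨x, hx, hv⟩ := S.cover hh.2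
  suffices hx1 : x = 1 by rwa [hx1, mul_one] at hv
  obtain ⟨x', hx', h'⟩ := S.assoc_comm (not_mem_mul hh.2 hx) hv
  have hhz : h * z = z * h := mem_centralizer_singleton_iff.1 hh.1
  have hvz : (h * x) * z * (h * x) = x⁻¹ * z * x := by
    nth_rewrite 1 [← inv_of_ord hv]
    calc (h * x)⁻¹ * z * (h * x) = x⁻¹ * (h⁻¹ * (z * h)) * x := by group
      _ = x⁻¹ * z * x := by rw [← hhz, inv_mul_cancel_left]
  have hx'1 : x' = 1 := S.inf_conj (not_mem_mul hh.2 hx) hv hx' (by
    have e : h * x * x' * (h * x) = ((h * x) * z * (h * x))⁻¹ * (h * x * (z * x') * (h * x)) := by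
      calc h * x * x' * (h * x) = (h * x)⁻¹ * x' * (h * x) := by rw [inv_of_ord hv]
        _ = _ := by group
    rw [e, h', hvz]
    exact mul_mem (inv_mem (mul_mem (mul_mem (inv_mem (le_normalizer hx)) S.zN) (le_normalizer hx)))
      (mul_mem S.zN (le_normalizer hx')))
  rw [hx'1, mul_one, hvz] at h'
  exact S.eq_one_of_comm hx (by
    calc x * z = x * (x⁻¹ * z * x) := by rw [h']
      _ = z * x := by group)

theorem outer_inverts {h : G} (hh : h ∈ Outer M z) {d : G} (hd : d ∈ Dz M z) :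
    h * d * h = d⁻¹ := by
  have h1 : h * d ∈ Outer M z :=
    ⟨mul_mem hh.1 hd.2, fun h' => hh.2 ((Subgroup.mul_mem_cancel_right _ hd.1).1 h')⟩
  have h2 := sq_of_ord (S.ord_outer h1)
  rw [← mul_assoc, mul_eq_one_iff_eq_inv] at h2
  exact h2

theorem eq_of_conj_mem {h y : G} (hh : h ∈ Outer M z) (hy : y ∈ normalizer (M : Set G))
    (hhy : h * y * h ∈ normalizer (M : Set G)) : y ∈ Dz M z := by
  obtain ⟨x, hx, d, hd, rfl⟩ := S.decomp hy
  have h2 := S.ord_outer hh
  have e : h * x * h = h * (x * d) * h * d := by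
    calc h * x * h = h * x * (d * h * h * d⁻¹) * h := by
          rw [mul_assoc d, sq_of_ord h2, mul_one, mul_inv_cancel, mul_one]
      _ = h * (x * d) * h * (h * d⁻¹ * h) := by simp only [mul_assoc]
      _ = _ := by rw [S.outer_inverts hh (inv_mem hd), inv_inv]
  rw [S.inf_conj hh.2 h2 hx (e ▸ mul_mem hhy hd.1), one_mul]
  exact hd

theorem exists_outer : ∃ h, h ∈ Outer M z := by
  obtain ⟨g, hg⟩ : ∃ g : G, g ∉ normalizer (M : Set G) := by
    by_contra h
    push Not at h
    exact S.not_normal (normalizer_eq_top_iff.1 (eq_top_iff.2 fun g _ => h g))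
  obtain ⟨x, hx, hv⟩ := S.cover hg
  obtain ⟨y, -, hO, -⟩ := S.conj_to_cen (not_mem_mul hg hx) hv
  exact ⟨_, hO⟩

theorem D_comm {d e : G} (hd : d ∈ Dz M z) (he : e ∈ Dz M z) : d * e = e * d := by
  obtain ⟨h, hh⟩ := S.exists_outer
  have h1 := S.outer_inverts hh (mul_mem hd he)
  have h2 : h * (d * e) * h = (h * d * h) * (h * e * h) := by
    calc h * (d * e) * h = h * d * (h * h) * e * h := by
          rw [sq_of_ord (S.ord_outer hh), mul_one, mul_assoc h d e]
      _ = _ := by simp only [mul_assoc]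
  rw [h2, S.outer_inverts hh hd, S.outer_inverts hh he, mul_inv_rev] at h1
  have h3 := congrArg Inv.inv h1
  simp only [mul_inv_rev, inv_inv] at h3
  exact h3.symm

theorem card_group : Nat.card G =
    Nat.card M * Nat.card (Dz M z) + Nat.card M * Nat.card M * Nat.card (Outer M z) := by
  classical
  have : Fintype G := Fintype.ofFinite G
  have hO : Nat.card {g : G // g ∉ normalizer (M : Set G)} +
      Nat.card M * Nat.card (Dz M z) = Nat.card G := by
    rw [← S.card_normalizer, add_comm,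
      show Nat.card ↥(normalizer (M : Set G)) = Nat.card {g : G // g ∈ normalizer (M : Set G)}
        from rfl, ← Nat.card_sum]
    exact Nat.card_congr (Equiv.sumCompl (fun g : G => g ∈ normalizer (M : Set G)))
  rw [← hO, add_comm]
  congr 1
  rw [← Nat.card_prod, ← Nat.card_prod]
  refine (Nat.card_congr (Equiv.ofBijective (fun p : (M × M) × Outer M z =>
    (⟨p.1.1.1 * p.2.1 * p.1.2.1, not_mem_mul (not_mem_mul' p.2.2.2 p.1.1.2) p.1.2.2⟩ :
      {g : G // g ∉ normalizer (M : Set G)})) ⟨?_, ?_⟩)).symm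
  · rintro ⟨⟨y, w⟩, h⟩ ⟨⟨y', w'⟩, h'⟩ he
    have h1 : (y : G) * h * w = y' * h' * w' := congrArg Subtype.val he
    set a := (y' : G)⁻¹ * y
    have hhh' := sq_of_ord (S.ord_outer h'.2)
    have hhh := sq_of_ord (S.ord_outer h.2)
    have hb : (h' : G) * a * h = (w' : G) * (w : G)⁻¹ := by
      calc (h' : G) * a * h = (h' : G) * (y' : G)⁻¹ * ((y : G) * h * w) * (w : G)⁻¹ := by
            simp only [a]; group
        _ = (h' : G) * (y' : G)⁻¹ * ((y' : G) * h' * w') * (w : G)⁻¹ := by rw [h1]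
        _ = ((h' : G) * h') * ((w' : G) * (w : G)⁻¹) := by group
        _ = _ := by rw [hhh', one_mul]
    have ha : a ∈ M := mul_mem (inv_mem y'.2) y.2
    have hbM : (h' : G) * a * h ∈ M := hb ▸ mul_mem w'.2 (inv_mem w.2)
    have hz1 : z * ((h' : G) * a * h) * z = (h' : G) * a⁻¹ * h := by
      have e1 : (h' : G) * z = z * h' := mem_centralizer_singleton_iff.1 h'.2.1
      have e2 : (h : G) * z = z * h := mem_centralizer_singleton_iff.1 h.2.1
      calc z * ((h' : G) * a * h) * z = (z * h') * a * (h * z) := by simp only [mul_assoc]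
        _ = (h' * z) * a * (z * h) := by rw [e1, e2]
        _ = h' * (z * a * z) * h := by simp only [mul_assoc]
        _ = _ := by rw [S.z_inv ha]
    rw [S.z_inv hbM] at hz1
    have h2 : (h' : G) * (a * a) * h' = (h' * a * h) * (h' * a * h) := by
      have hh1 : ((h' : G) * a⁻¹ * h)⁻¹ = h' * a * h := by rw [← hz1, inv_inv]
      nth_rewrite 2 [← hh1]
      rw [mul_inv_rev, mul_inv_rev, inv_inv, inv_of_ord (S.ord_outer h'.2),
        inv_of_ord (S.ord_outer h.2)]
      calc (h' : G) * (a * a) * h' = h' * a * ((h : G) * h) * a * h' := by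
            rw [hhh, mul_one, mul_assoc (h' : G) a a]
        _ = _ := by simp only [mul_assoc]
    have haa := S.inf_conj h'.2.2 (S.ord_outer h'.2) (mul_mem ha ha)
      (h2 ▸ le_normalizer (mul_mem hbM hbM))
    have ha1 := S.eq_one_of_sq ha haa
    have hyy : y = y' := (Subtype.ext (inv_mul_eq_one.1 ha1)).symm
    rw [ha1, mul_one] at hb hbM
    have hb1 : (h' : G) * h = 1 := S.eq_one_of_comm hbM
      (mem_centralizer_singleton_iff.1 (mul_mem h'.2.1 h.2.1))
    have hhh'' : h = h' := Subtype.ext (by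
      rw [← inv_of_ord (S.ord_outer h'.2)]; exact eq_inv_of_mul_eq_one_right hb1)
    rw [hb1] at hb
    exact Prod.ext (Prod.ext hyy (Subtype.ext (mul_inv_eq_one.1 hb.symm).symm)) hhh''
  · rintro ⟨g, hg⟩
    obtain ⟨x, hx, hv⟩ := S.cover hg
    obtain ⟨y, hy, hO, -⟩ := S.conj_to_cen (not_mem_mul hg hx) hv
    refine ⟨((⟨y, hy⟩, ⟨y⁻¹ * x⁻¹, mul_mem (inv_mem hy) (inv_mem hx)⟩), ⟨_, hO⟩), Subtype.ext ?_⟩
    show y * (y⁻¹ * (g * x) * y) * (y⁻¹ * x⁻¹) = g
    group

theorem card_involutions : Nat.card {g : G // orderOf g = 2} =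
    Nat.card M + Nat.card M * Nat.card (Outer M z) := by
  have h := S.count_aux.2
  rw [S.card_group] at h
  refine Nat.eq_of_mul_eq_mul_right (Nat.card_pos (α := M)) ?_
  linarith

theorem card_centralizer : Nat.card (centralizer ({z} : Set G)) =
    Nat.card (Dz M z) + Nat.card (Outer M z) := by
  classical
  rw [← Nat.card_sum]
  exact (Nat.card_congr ((Equiv.sumCompl
    (fun c : centralizer ({z} : Set G) => (c : G) ∈ normalizer (M : Set G))).symm.trans
    (Equiv.sumCongr
      ((Equiv.subtypeSubtypeEquivSubtypeInter _ _).trans (Equiv.subtypeEquivRight fun g => and_comm))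
      (Equiv.subtypeSubtypeEquivSubtypeInter (fun g : G => g ∈ centralizer ({z} : Set G))
        (fun g => g ∉ normalizer (M : Set G))))))

end Setup

end Cfsg.Agent.LocalEvenD.TIInvol
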