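import Cfsg.Agent.LocalEvenD.TIInvol.CaseA
import Cfsg.Agent.Lib.Fitting.KegelWielandt
import Cfsg.Agent.Lib.Fitting.Minimal
import Cfsg.Agent.Lib.Frobenius.FixedPointFree
import Cfsg.Agent.Lib.Zassenhaus.Cyclic
import Cfsg.Agent.H40.Dihedral

/-!
The case `|M| = q + 1`, `|C(z)| = 2 q`: `G` is solvable, an elementary abelian group of order
`q ^ 2` extended by a dihedral group.
-/

set_option autoImplicit false
set_option linter.unusedSectionVars false

namespace Cfsg.Agent.LocalEvenD.TIInvol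

open Subgroup

theorem two_mul_eq_of_dvd {a d : ℕ} (h : 2 ^ d + 1 ∣ 2 ^ a - 1) (ha : a ≤ 2 * d) :
    a = 0 ∨ a = 2 * d := by
  rcases Nat.lt_or_ge a d with h1 | h1
  · left
    by_contra h0
    have h2 : 2 ^ a < 2 ^ d + 1 := by
      have := Nat.pow_le_pow_right two_pos h1.le
      omega
    have h3 : 1 < 2 ^ a := Nat.one_lt_two_pow h0
    exact absurd (Nat.le_of_dvd (by omega) h) (by omega)
  · obtain ⟨b, rfl⟩ : ∃ b, a = d + b := ⟨a - d, by omega⟩
    rcases Nat.lt_or_ge b d with h2 | h2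
    · exfalso
      have h3 : 2 ^ b < 2 ^ d := Nat.pow_lt_pow_right (by norm_num) h2
      have h5 : 1 ≤ 2 ^ (d + b) := Nat.one_le_two_pow
      have h4 : 2 ^ b * (2 ^ d + 1) = (2 ^ (d + b) - 1) + (2 ^ b + 1) := by
        rw [pow_add] at h5 ⊢
        obtain ⟨w, hw⟩ : ∃ w, 2 ^ d * 2 ^ b = w + 1 := ⟨2 ^ d * 2 ^ b - 1, by omega⟩
        rw [hw, Nat.add_sub_cancel, mul_add, mul_one, mul_comm, hw]
        ring
      have h7 : 2 ^ d + 1 ∣ (2 ^ (d + b) - 1) + (2 ^ b + 1) := by
        rw [← h4]; exact dvd_mul_left _ _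
      have h8 : 2 ^ d + 1 ≤ 2 ^ b + 1 :=
        Nat.le_of_dvd (Nat.succ_pos _) ((Nat.dvd_add_right h).1 h7)
      omega
    · right; omega

namespace Setup

variable {G : Type*} [Group G] [Finite G] {M : Subgroup G} {z : G} (S : Setup G M z)

include S

theorem solvable_one {d : ℕ} (hm : Nat.card M = 2 ^ d + 1)
    (hG : Nat.card G = 2 * (2 ^ d * 2 ^ d) * Nat.card M) : Group.IsSolvable G := by
  haveI : Fact (Nat.Prime 2) := ⟨Nat.prime_two⟩
  obtain ⟨P⟩ : Nonempty (Sylow 2 G) := inferInstance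
  have hcop : Nat.Coprime (2 ^ (2 * d + 1)) (Nat.card M) :=
    Nat.Coprime.pow_left _ (Nat.coprime_two_left.2 S.odd_card)
  have hG' : Nat.card G = 2 ^ (2 * d + 1) * Nat.card M := by
    rw [hG, pow_succ, two_mul d, pow_add]; ring
  have hP : Nat.card P = 2 ^ (2 * d + 1) := by
    rw [P.card_eq_multiplicity, hG', Nat.factorization_mul (by positivity) Nat.card_pos.ne',
      Finsupp.add_apply, Nat.prime_two.factorization_pow, Finsupp.single_eq_same,
      Nat.factorization_eq_zero_of_not_dvd (fun h => by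
        have h1 := Nat.not_even_iff_odd.2 S.odd_card
        exact h1 (even_iff_two_dvd.2 h)), add_zero]
  letI : CommGroup M :=
    { (inferInstance : Group M) with mul_comm := fun x y => Subtype.ext (S.comm x.2 y.2) }
  refine Cfsg.Agent.KegelWielandt.isSolvable_of_nilpotent_product M (P : Subgroup G)
    inferInstance P.2.isNilpotent ?_
  have hdisj : Disjoint M (P : Subgroup G) :=
    disjoint_of_coprime_natCard (by rw [show Nat.card (P : Subgroup G) = Nat.card P from rfl, hP]; exact hcop.symm)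
  have hc : IsComplement' M (P : Subgroup G) := isComplement'_of_card_mul_and_disjoint
    (by rw [show Nat.card (P : Subgroup G) = Nat.card P from rfl, hP, hG']; ring) hdisj
  intro g
  obtain ⟨⟨a, b⟩, hab⟩ := hc.2 g
  exact ⟨a, a.2, b, b.2, hab.symm⟩

theorem one_case {d : ℕ} (hd : 1 ≤ d) (hD : Nat.card (Dz M z) = 2) (hm : Nat.card M = 2 ^ d + 1)
    (hG : Nat.card G = 2 * (2 ^ d * 2 ^ d) * Nat.card M) :
    ∃ (E : Subgroup G), E.Normal ∧ Cfsg.IsElementaryAbelian 2 E ∧ Nat.card E = 2 ^ (2 * d) ∧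
      E ⊓ normalizer (M : Set G) = ⊥ ∧ E ⊔ normalizer (M : Set G) = ⊤ ∧
      Nonempty (↥(normalizer (M : Set G)) ≃* DihedralGroup (2 ^ d + 1)) := by
  classical
  haveI := S.solvable_one hm hG
  haveI : Nontrivial G := ⟨⟨z, 1, ne_one_of_ord S.ordz⟩⟩
  obtain ⟨E, hE⟩ := Cfsg.Agent.Fitting.exists_isMinNormal (G := G)
  obtain ⟨p, hp, hEp⟩ := hE.exists_isElementaryAbelian_of_isSolvable
  haveI := hE.1
  haveI : Fact p.Prime := ⟨hp⟩
  obtain ⟨k, hk⟩ := IsPGroup.iff_card.mp (Cfsg.Agent.Fitting.isPGroup_of_isElementaryAbelian hEp)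
  -- a normal subgroup inside `M` is trivial
  have hnotle : ¬ E ≤ M := by
    intro hle
    obtain ⟨x, hx, hx1⟩ := (bot_or_exists_ne_one E).resolve_left hE.2.1
    refine S.not_normal (normalizer_eq_top_iff.1 (eq_top_iff.2 fun g _ => ?_))
    exact S.ti_mem (hle hx) hx1 (hle (hE.1.conj_mem x hx g))
  obtain rfl : p = 2 := by
    by_contra hp2
    apply hnotle
    have h1 : Nat.card (↥(M ⊔ E)) ∣ Nat.card E * Nat.card M := by
      have h2 := (E.subgroupOf (M ⊔ E)).card_mul_index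
      rw [Nat.card_congr (subgroupOfEquivOfLe le_sup_right).toEquiv] at h2
      rw [← h2]
      refine Nat.mul_dvd_mul_left _ ?_
      show E.relIndex (M ⊔ E) ∣ _
      rw [relIndex_sup_right]
      exact relIndex_dvd_card E M
    have h3 : Nat.card M ∣ Nat.card (↥(M ⊔ E)) := card_dvd_of_le le_sup_left
    obtain ⟨r, hr⟩ := h3
    rw [hr, mul_comm (Nat.card E)] at h1
    have hrE : r ∣ p ^ k := hk ▸ Nat.dvd_of_mul_dvd_mul_left Nat.card_pos h1
    have hrG : r ∣ 2 * (2 ^ d * 2 ^ d) := by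
      have h4 : Nat.card (↥(M ⊔ E)) ∣ Nat.card G := card_subgroup_dvd_card _
      rw [hr, hG, mul_comm (2 * _)] at h4
      exact Nat.dvd_of_mul_dvd_mul_left Nat.card_pos h4
    have hr1 : r = 1 := by
      refine Nat.eq_one_of_dvd_coprimes (a := p ^ k) (b := 2 ^ (2 * d + 1)) ?_ hrE ?_
      · exact Nat.Coprime.pow _ _ ((Nat.coprime_primes hp Nat.prime_two).2 hp2)
      · rw [pow_succ, two_mul d, pow_add, mul_comm]; exact hrG
    rw [hr1, mul_one] at hr
    exact (le_sup_right : E ≤ M ⊔ E).trans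
      (Subgroup.eq_of_le_of_card_ge le_sup_left hr.le).ge
  have hsqE : ∀ x ∈ E, x * x = 1 := fun x hx => by rw [← pow_two]; exact hEp.2 x hx
  have hEM : ∀ x ∈ E, x ∈ M → x = 1 := fun x hx hxM => S.eq_one_of_sq hxM (hsqE x hx)
  have hzE : z ∉ E := by
    intro hzE
    obtain ⟨y, hy, hy1⟩ := (bot_or_exists_ne_one M).resolve_left S.ne_bot
    refine hy1 (S.eq_one_of_comm hy ?_)
    have h1 : y * z * y⁻¹ * z = 1 := by
      refine hEM _ (mul_mem (hE.1.conj_mem z hzE y) hzE) ?_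
      rw [show y * z * y⁻¹ * z = y * (z * y⁻¹ * z) by simp only [mul_assoc], S.z_inv (inv_mem hy),
        inv_inv]
      exact mul_mem hy hy
    rw [mul_eq_one_iff_eq_inv, S.zinv, mul_inv_eq_iff_eq_mul] at h1
    exact h1
  have hinf : E ⊓ normalizer (M : Set G) = ⊥ := by
    rw [Subgroup.eq_bot_iff_forall]
    rintro x ⟨hxE, hxN⟩
    by_contra hx1
    obtain ⟨w, hw, rfl⟩ := S.inv_normalizer hxN (ord_of_sq (hsqE x hxE) hx1)
    obtain ⟨y, hy, hyw⟩ := S.conj_z hw
    apply hzE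
    have h2 := hE.1.conj_mem _ hxE y⁻¹
    rw [← hyw, inv_inv, show y⁻¹ * (y * z * y⁻¹) * y = z by group] at h2
    exact h2
  -- the order of `E`
  have hN : Nat.card (normalizer (M : Set G)) = 2 * Nat.card M := by
    rw [S.card_normalizer, hD, mul_comm]
  have hinj : Function.Injective
      (fun p : E × normalizer (M : Set G) => (p.1 : G) * (p.2 : G)) := by
    rintro ⟨e, n⟩ ⟨e', n'⟩ h
    have h' : (e : G) * n = e' * n' := h
    have h1 : (e' : G)⁻¹ * e = 1 := by
      rw [← mem_bot, ← hinf, Subgroup.mem_inf]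
      refine ⟨mul_mem (inv_mem e'.2) e.2, ?_⟩
      rw [show (e' : G)⁻¹ * e = n' * (n : G)⁻¹ by
        rw [eq_mul_inv_iff_mul_eq, mul_assoc, h', inv_mul_cancel_left]]
      exact mul_mem n'.2 (inv_mem n.2)
    have he : e = e' := (Subtype.ext (inv_mul_eq_one.1 h1)).symm
    subst he
    exact Prod.ext rfl (Subtype.ext (mul_left_cancel h'))
  have hle : Nat.card E ≤ 2 ^ (2 * d) := by
    have h := Nat.card_le_card_of_injective _ hinj
    rw [Nat.card_prod, hN, hG] at h
    rw [two_mul d, pow_add]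
    refine Nat.le_of_mul_le_mul_right ?_ (show 0 < 2 * Nat.card M by
      have : 0 < Nat.card M := Nat.card_pos
      omega)
    linarith
  have hfpf : Frobenius.IsFPF M E := by
    refine ⟨(normalizer_eq_top_iff.2 hE.1).ge.trans' le_top, fun x hx hx1 => ?_⟩
    rw [eq_bot_iff]
    rintro e ⟨he, hec⟩
    rw [mem_bot]
    by_contra he1
    have h2 := orderOf_dvd_natCard (⟨e, hec⟩ : centralizer ({x} : Set G))
    rw [Subgroup.orderOf_mk, ord_of_sq (hsqE e he) he1, ← even_iff_two_dvd] at h2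
    exact Nat.not_even_iff_odd.2 (S.cenodd x hx hx1) h2
  have hEcard : Nat.card E = 2 ^ (2 * d) := by
    have h := hfpf.card_dvd_card_sub_one
    rw [hm, hk] at h
    rw [hk] at hle
    rcases two_mul_eq_of_dvd h ((Nat.pow_le_pow_iff_right (by norm_num)).1 hle) with h0 | h0
    · exfalso
      rw [h0, pow_zero] at hk
      exact hE.2.1 (Subgroup.eq_bot_of_card_eq _ hk)
    · rw [hk, h0]
  have hsup : E ⊔ normalizer (M : Set G) = ⊤ := by
    refine eq_top_iff.2 fun g _ => ?_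
    haveI := Fintype.ofFinite G
    haveI := Fintype.ofFinite (E × normalizer (M : Set G))
    obtain ⟨⟨e, n⟩, he⟩ := ((Fintype.bijective_iff_injective_and_card _).2 ⟨hinj, by
      rw [← Nat.card_eq_fintype_card, ← Nat.card_eq_fintype_card, Nat.card_prod, hEcard, hN, hG,
        two_mul d, pow_add]
      ring⟩).2 g
    rw [← he]
    exact mul_mem (mem_sup_left e.2) (mem_sup_right n.2)
  -- `M` is cyclic
  have hcyc : IsCyclic M := by
    letI : CommGroup E :=
      { (inferInstance : Group E) with mul_comm := fun x y => hEp.1.is_comm.comm x y }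
    letI : MulDistribMulAction M E := MulDistribMulAction.compHom E (Subgroup.inclusion hfpf.1)
    haveI : Nontrivial E := (Subgroup.nontrivial_iff_ne_bot E).2 hE.2.1
    refine ZassNormal.isCyclic_of_fpf_comm (M := E) (fun x y => Subtype.ext (S.comm x.2 y.2))
      hfpf.coprime fun v hv1 w hw => Subtype.ext ?_
    refine hfpf.eq_one_of_commute v.2 (fun h => hv1 (Subtype.ext h)) w.2 ?_
    have h3 : (v : G) * w * (v : G)⁻¹ = w := congrArg Subtype.val hw
    exact mul_inv_eq_iff_eq_mul.1 h3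
  refine ⟨E, hE.1, hEp, hEcard, hinf, hsup, ?_⟩
  obtain ⟨⟨x, hx⟩, hgen⟩ := hcyc.exists_generator
  have hMx : M = zpowers x := by
    refine le_antisymm (fun y hy => ?_) (zpowers_le.2 hx)
    obtain ⟨i, hi⟩ := hgen ⟨y, hy⟩
    exact ⟨i, congrArg Subtype.val hi⟩
  have hox : orderOf x = 2 ^ d + 1 := by rw [← hm, hMx, Nat.card_zpowers]
  have hzM : z ∉ zpowers x := fun h =>
    ne_one_of_ord S.ordz (S.eq_one_of_sq (hMx.ge h) S.zz)
  obtain ⟨e⟩ := Cfsg.Agent.H40.nonempty_mulEquiv_dihedral hox S.zz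
    (by rw [S.zinv, S.z_inv hx]) hzM
  refine ⟨(MulEquiv.subgroupCongr ?_).trans e⟩
  refine (Subgroup.eq_of_le_of_card_ge (sup_le (zpowers_le.2 S.zN)
    (zpowers_le.2 (le_normalizer hx))) ?_).symm
  rw [Nat.card_congr e.toEquiv, DihedralGroup.nat_card, hN, hm]

end Setup

end Cfsg.Agent.LocalEvenD.TIInvol
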