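import Cfsg.Agent.LocalEvenD.TIInvol.CaseA
import Cfsg.Agent.Lib.Zassenhaus.OddPSL
import Cfsg.Agent.Lib.Dickson.Tori

/-!
The case `|M| = |C(z)| + 1`: `G` is `PSL(2, 2^e)` and `M` is cyclic.
-/

set_option autoImplicit false
set_option linter.unusedSectionVars false

namespace Cfsg.Agent.LocalEvenD.TIInvol

open Subgroup MulAction
open Cfsg.Agent.CharDeep

theorem zass_smul_mk {G : Type*} [Group G] {N : Subgroup G} {g x : G} :
    g • (x : G ⧸ N) = (x : G ⧸ N) ↔ x⁻¹ * g * x ∈ N := by
  rw [MulAction.Quotient.smul_coe, eq_comm, QuotientGroup.eq, smul_eq_mul, mul_assoc]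

/-- An abelian odd-order subgroup of `PSL(2, F)`, `|F|` even, is cyclic. -/
theorem isCyclic_of_abelian_odd {F : Type*} [Field F] [Fintype F] [CharP F 2]
    {K : Subgroup (Matrix.ProjectiveSpecialLinearGroup (Fin 2) F)}
    (hK : ∀ x ∈ K, ∀ y ∈ K, x * y = y * x) (hodd : Odd (Nat.card K)) : IsCyclic K := by
  classical
  haveI : Fact (Nat.Prime 2) := ⟨Nat.prime_two⟩
  rcases eq_or_ne K ⊥ with h | h
  · subst h; infer_instance
  obtain ⟨g, hg, hg1⟩ := (bot_or_exists_ne_one K).resolve_left h
  have hog : Odd (orderOf g) :=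
    hodd.of_dvd_nat (by rw [← Subgroup.orderOf_mk g hg]; exact orderOf_dvd_natCard _)
  obtain ⟨N, n, hN, -, -, hnorm, -⟩ :=
    Cfsg.Agent.Dickson.torus_of (F := F) 2 hg1 (Nat.coprime_two_right.2 hog)
  obtain ⟨e⟩ := hN.2.1
  have hKN : K ≤ N := fun x hx => hnorm x (by
    rw [hK x hx g hg, mul_inv_cancel_right]; exact mem_zpowers g)
  let f : K →* DihedralGroup n := e.toMonoidHom.comp (Subgroup.inclusion hKN)
  have hf : Function.Injective f := e.injective.comp (Subgroup.inclusion_injective hKN)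
  have hrot : ∀ x : K, f x ∈ Subgroup.zpowers (DihedralGroup.r (1 : ZMod n)) := by
    intro x
    rcases hfx : f x with i | i
    · obtain ⟨j, rfl⟩ := ZMod.intCast_surjective i
      exact ⟨j, by simp [DihedralGroup.r_one_zpow]⟩
    · exfalso
      have h1 : orderOf (f x) = 2 := by rw [hfx]; exact DihedralGroup.orderOf_sr i
      rw [orderOf_injective f hf x] at h1
      have h2 := orderOf_dvd_natCard x
      rw [h1, ← even_iff_two_dvd] at h2
      exact Nat.not_even_iff_odd.2 hodd h2
  exact isCyclic_of_injective (f.codRestrict _ hrot) fun x y hxy =>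
    hf (congrArg Subtype.val hxy)

namespace Setup

variable {G : Type*} [Group G] [Finite G] {M : Subgroup G} {z : G} (S : Setup G M z)

include S

theorem two_case (hbig : 2 * Nat.card (Dz M z) < Nat.card (centralizer ({z} : Set G))) {d : ℕ}
    (hd : 1 ≤ d) (hH : Nat.card (centralizer ({z} : Set G)) = 2 ^ (d + 1))
    (hn : Nat.card {g : G // orderOf g = 2} = Nat.card M * (2 ^ (d + 1) - 1))
    (hm : Nat.card M = 2 ^ (d + 1) + 1)
    (hG : Nat.card G = (2 ^ (d + 1) + 1) * (2 ^ (d + 1) * (2 ^ (d + 1) - 1)))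
    (hidx : (centralizer ({z} : Set G)).index = Nat.card {g : G // orderOf g = 2}) :
    ∃ (F : Type) (_ : Field F) (_ : Fintype F), Fintype.card F = 2 ^ (d + 1) ∧ IsCyclic M ∧
      Nonempty (G ≃* Matrix.ProjectiveSpecialLinearGroup (Fin 2) F) := by
  classical
  haveI := Fintype.ofFinite G
  set Q := 2 ^ (d + 1) with hQ
  set H := centralizer ({z} : Set G) with hHdef
  have hQ4 : 4 ≤ Q := by
    rw [hQ]; exact le_trans (by norm_num) (Nat.pow_le_pow_right two_pos (show 2 ≤ d + 1 by omega))
  have hzH : z ∈ H := mem_centralizer_singleton_iff.2 rfl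
  -- all involutions are conjugate to `z`
  have hall : ∀ v : G, orderOf v = 2 → ∃ g, v = g * z * g⁻¹ := by
    let f : G ⧸ H → {g : G // orderOf g = 2} := fun c =>
      ⟨c.out * z * c.out⁻¹, by rw [ord_conj]; exact S.ordz⟩
    have hf : Function.Injective f := by
      intro c c' h
      have h1 : c.out * z * c.out⁻¹ = c'.out * z * c'.out⁻¹ := congrArg Subtype.val h
      rw [← QuotientGroup.out_eq' c, ← QuotientGroup.out_eq' c', QuotientGroup.eq]
      refine mem_centralizer_singleton_iff.2 ?_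
      calc c.out⁻¹ * c'.out * z = c.out⁻¹ * (c'.out * z * c'.out⁻¹) * c'.out := by group
        _ = c.out⁻¹ * (c.out * z * c.out⁻¹) * c'.out := by rw [h1]
        _ = z * (c.out⁻¹ * c'.out) := by group
    haveI := Fintype.ofFinite (G ⧸ H)
    intro v hv
    obtain ⟨c, hc⟩ := ((Fintype.bijective_iff_injective_and_card f).2 ⟨hf, by
      rw [← Nat.card_eq_fintype_card, ← Nat.card_eq_fintype_card, ← Subgroup.index, hidx]⟩).2
      ⟨v, hv⟩
    exact ⟨c.out, (congrArg Subtype.val hc).symm⟩
  have hsq : ∀ c ∈ H, c * c = 1 := fun c hc => S.sq_centralizer hbig hc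
  have hcomm : ∀ a ∈ H, ∀ b ∈ H, a * b = b * a := fun a ha b hb => S.comm_centralizer hbig ha hb
  have hcen : ∀ s ∈ H, s ≠ 1 → centralizer ({s} : Set G) = H := by
    intro s hs hs1
    obtain ⟨g, hg⟩ := hall s (ord_of_sq (hsq s hs) hs1)
    have hle : H ≤ centralizer ({s} : Set G) := fun b hb =>
      mem_centralizer_singleton_iff.2 (hcomm b hb s hs)
    refine (Subgroup.eq_of_le_of_card_ge hle ?_).symm
    refine Nat.card_le_card_of_injective
      (fun b => (⟨g⁻¹ * b * g, mem_centralizer_singleton_iff.2 ?_⟩ : H)) fun b b' h => ?_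
    · have hb : (b : G) * (g * z * g⁻¹) = (g * z * g⁻¹) * (b : G) :=
        hg ▸ mem_centralizer_singleton_iff.1 b.2
      calc g⁻¹ * (b : G) * g * z = g⁻¹ * ((b : G) * (g * z * g⁻¹)) * g := by group
        _ = g⁻¹ * ((g * z * g⁻¹) * (b : G)) * g := by rw [hb]
        _ = z * (g⁻¹ * (b : G) * g) := by group
    · exact Subtype.ext (mul_left_cancel (mul_right_cancel (congrArg Subtype.val h)))
  set NH := normalizer (H : Set G) with hNHdef
  have hmemNH : ∀ g : G, g * z * g⁻¹ ∈ H → g ∈ NH := by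
    intro g hg
    have h1 := hcen _ hg fun h => ne_one_of_ord S.ordz (conj_eq_one_iff.1 h)
    rw [hNHdef, mem_normalizer_iff]
    intro b
    nth_rewrite 2 [← h1]
    rw [mem_centralizer_singleton_iff, mem_centralizer_singleton_iff]
    constructor
    · intro hb
      calc g * b * g⁻¹ * (g * z * g⁻¹) = g * (b * z) * g⁻¹ := by group
        _ = g * (z * b) * g⁻¹ := by rw [hb]
        _ = g * z * g⁻¹ * (g * b * g⁻¹) := by group
    · intro hb
      calc b * z = g⁻¹ * (g * b * g⁻¹ * (g * z * g⁻¹)) * g := by group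
        _ = g⁻¹ * (g * z * g⁻¹ * (g * b * g⁻¹)) * g := by rw [hb]
        _ = z * b := by group
  have hHNH : H ≤ NH := le_normalizer
  have hinvNH : ∀ s ∈ NH, orderOf s = 2 → s ∈ H := by
    intro s hs hs2
    have hszs : s * z * s ∈ H := by
      have := (mem_normalizer_iff.1 hs z).1 hzH
      rwa [inv_of_ord hs2] at this
    by_cases hb : z * (s * z * s) = 1
    · refine mem_centralizer_singleton_iff.2 ?_
      have h1 : s * z * s = z := by
        rw [eq_inv_of_mul_eq_one_right hb, S.zinv]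
      calc s * z = s * z * s * s := by rw [mul_assoc (s * z), sq_of_ord hs2, mul_one]
        _ = z * s := by rw [h1]
    · rw [← hcen _ (mul_mem hzH hszs) hb, mem_centralizer_singleton_iff]
      calc s * (z * (s * z * s)) = (s * z * s) * z * s := by simp only [mul_assoc]
        _ = z * (s * z * s) * s := by rw [hcomm _ hszs z hzH]
  -- the order of `N(H)`
  have hNH : Nat.card NH = Q * (Q - 1) := by
    have hex : ∀ s : {s : H // s ≠ 1}, ∃ g, ((s : H) : G) = g * z * g⁻¹ := fun s =>
      hall _ (ord_of_sq (hsq _ (s : H).2) fun h => s.2 (Subtype.ext h))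
    choose g hg using hex
    have hgN : ∀ s, g s ∈ NH := fun s => hmemNH _ (hg s ▸ (s : H).2)
    let f : {s : H // s ≠ 1} × H → NH := fun p => ⟨g p.1 * p.2, mul_mem (hgN p.1) (hHNH p.2.2)⟩
    have hcz : ∀ b : H, (b : G) * z * (b : G)⁻¹ = z := fun b => by
      rw [mem_centralizer_singleton_iff.1 b.2, mul_inv_cancel_right]
    have hf : Function.Bijective f := by
      constructor
      · rintro ⟨s, b⟩ ⟨s', b'⟩ h
        have h1 : g s * b = g s' * b' := congrArg Subtype.val h
        have h2 : ((s : H) : G) = (s' : H) := by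
          calc ((s : H) : G) = g s * ((b : G) * z * (b : G)⁻¹) * (g s)⁻¹ := by rw [hcz]; exact hg s
            _ = (g s * b) * z * (g s * b)⁻¹ := by group
            _ = (g s' * b') * z * (g s' * b')⁻¹ := by rw [h1]
            _ = g s' * ((b' : G) * z * (b' : G)⁻¹) * (g s')⁻¹ := by group
            _ = (s' : H) := by rw [hcz]; exact (hg s').symm
        have h3 : s = s' := Subtype.ext (Subtype.ext h2)
        subst h3
        exact Prod.ext rfl (Subtype.ext (mul_left_cancel h1))
      · rintro ⟨k, hk⟩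
        have hkz : k * z * k⁻¹ ∈ H := (mem_normalizer_iff.1 hk z).1 hzH
        let s : {s : H // s ≠ 1} := ⟨⟨_, hkz⟩, fun h =>
          ne_one_of_ord S.ordz (conj_eq_one_iff.1 (congrArg Subtype.val h))⟩
        have hb : (g s)⁻¹ * k ∈ H := by
          rw [hHdef, mem_centralizer_singleton_iff]
          have h4 : k * z * k⁻¹ = g s * z * (g s)⁻¹ := hg s
          calc (g s)⁻¹ * k * z = (g s)⁻¹ * (k * z * k⁻¹) * k := by group
            _ = (g s)⁻¹ * (g s * z * (g s)⁻¹) * k := by rw [h4]
            _ = z * ((g s)⁻¹ * k) := by group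
        exact ⟨(s, ⟨_, hb⟩), Subtype.ext (mul_inv_cancel_left _ _)⟩
    have hc := Nat.card_congr (Equiv.ofBijective f hf)
    haveI := Fintype.ofFinite H
    rw [Nat.card_prod, hH, Nat.card_eq_fintype_card (α := {s : H // s ≠ 1}),
      Fintype.card_subtype_compl, Fintype.card_subtype_eq, ← Nat.card_eq_fintype_card, hH] at hc
    rw [← hc, mul_comm]
  haveI := Fintype.ofFinite (G ⧸ NH)
  have hΩ : Fintype.card (G ⧸ NH) = Q + 1 := by
    rw [← Nat.card_eq_fintype_card, ← Subgroup.index]
    have h := NH.card_mul_index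
    rw [hNH, hG] at h
    refine Nat.eq_of_mul_eq_mul_left (Nat.mul_pos (by omega) (by omega) : 0 < Q * (Q - 1)) ?_
    rw [h]; ring
  set a : G ⧸ NH := ((1 : G) : G ⧸ NH) with ha
  obtain ⟨x0, hx0⟩ : ∃ x0, x0 ∉ NH := by
    by_contra hcon
    push Not at hcon
    have : NH = ⊤ := eq_top_iff.2 fun g _ => hcon g
    have h2 := NH.index_eq_card
    rw [Nat.card_eq_fintype_card, hΩ, this, Subgroup.index_top] at h2
    omega
  set b : G ⧸ NH := (x0 : G ⧸ NH) with hb
  have hab : a ≠ b := fun h => hx0 (by simpa using QuotientGroup.eq.mp h)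
  have hfixa : ∀ g, g • a = a ↔ g ∈ NH := fun g => by rw [ha, zass_smul_mk]; simp
  have hHa : ∀ h ∈ H, h • a = a := fun h hh => (hfixa h).2 (hHNH hh)
  have hfix : ∀ h ∈ H, h ≠ 1 → ∀ c : G ⧸ NH, h • c = c → c = a := by
    intro h hh hh1 c
    induction c using QuotientGroup.induction_on with
    | H x =>
      intro hc
      have h1 := zass_smul_mk.1 hc
      have hne : x⁻¹ * h * x ≠ 1 := fun e => hh1 (by
        simpa [mul_assoc] using congrArg (fun w => x * w * x⁻¹) e)
      have h2 : x⁻¹ * h * x ∈ H := hinvNH _ h1 (by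
        have := ord_conj x⁻¹ h
        rw [inv_inv] at this
        rw [this]; exact ord_of_sq (hsq h hh) hh1)
      obtain ⟨g, hg⟩ := hall h (ord_of_sq (hsq h hh) hh1)
      have hgN : g ∈ NH := hmemNH g (hg ▸ hh)
      have hxg : x⁻¹ * g ∈ NH := hmemNH _ (by
        rw [show x⁻¹ * g * z * (x⁻¹ * g)⁻¹ = x⁻¹ * (g * z * g⁻¹) * x by group, ← hg]; exact h2)
      rw [ha, QuotientGroup.eq, mul_one]
      have := mul_mem hxg (inv_mem hgN)
      rwa [mul_inv_cancel_right] at this
  have hinjH : ∀ h ∈ H, ∀ h' ∈ H, h • b = h' • b → h = h' := by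
    intro h hh h' hh' e
    by_contra hne
    refine hab.symm (hfix (h'⁻¹ * h) (mul_mem (inv_mem hh') hh)
      (fun e' => hne (inv_mul_eq_one.1 e').symm) b ?_)
    rw [mul_smul, e, inv_smul_smul]
  have hHtrans : ∀ c : G ⧸ NH, c ≠ a → ∃ h ∈ H, h • b = c := by
    intro c hc
    haveI := Fintype.ofFinite H
    let f : H → {c : G ⧸ NH // c ≠ a} := fun h => ⟨(h : G) • b, fun e =>
      hab (MulAction.injective (h : G) ((hHa h h.2).trans e.symm))⟩
    have hf : Function.Injective f := fun h h' e =>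
      Subtype.ext (hinjH _ h.2 _ h'.2 (congrArg Subtype.val e))
    obtain ⟨h, hh⟩ := ((Fintype.bijective_iff_injective_and_card f).2 ⟨hf, by
      rw [Fintype.card_subtype_compl, Fintype.card_subtype_eq, hΩ, ← Nat.card_eq_fintype_card, hH]
      omega⟩).2 ⟨c, hc⟩
    exact ⟨h, h.2, congrArg Subtype.val hh⟩
  have key : ∀ c e : G ⧸ NH, c ≠ e → ∃ g : G, g • a = c ∧ g • b = e := by
    intro c e hce
    obtain ⟨g, hg⟩ := exists_smul_eq G a c
    obtain ⟨h, hh, hhb⟩ := hHtrans (g⁻¹ • e) fun h => hce (by rw [← hg, ← h, smul_inv_smul])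
    exact ⟨g * h, by rw [mul_smul, hHa h hh, hg], by rw [mul_smul, hhb, smul_inv_smul]⟩
  have h2t : IsMultiplyPretransitive G (G ⧸ NH) 2 := is_two_pretransitive_iff.2
    fun {p q r s} hpq hrs => by
    obtain ⟨g1, h1, h1'⟩ := key p q hpq
    obtain ⟨g2, h2, h2'⟩ := key r s hrs
    exact ⟨g2 * g1⁻¹, by rw [mul_smul, ← h1, inv_smul_smul, h2],
      by rw [mul_smul, ← h1', inv_smul_smul, h2']⟩
  set T := Zass.two G a b with hT
  have hTcard : Nat.card T = Q - 1 := by
    let f : H × T → NH := fun p =>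
      ⟨(p.1 : G) * p.2, mul_mem (hHNH p.1.2) ((hfixa _).1 p.2.2.1)⟩
    have hf : Function.Bijective f := by
      constructor
      · rintro ⟨h, t⟩ ⟨h', t'⟩ e
        have e1 : (h : G) * t = h' * t' := congrArg Subtype.val e
        have e2 : (h : G) = h' := hinjH _ h.2 _ h'.2 (by
          have := congrArg (fun g : G => g • b) e1
          simp only [mul_smul] at this
          rwa [show (t : G) • b = b from t.2.2, show (t' : G) • b = b from t'.2.2] at this)
        have e3 : h = h' := Subtype.ext e2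
        subst e3
        exact Prod.ext rfl (Subtype.ext (mul_left_cancel e1))
      · rintro ⟨k, hk⟩
        have hka := (hfixa k).2 hk
        obtain ⟨h, hh, hhb⟩ := hHtrans (k • b) fun e =>
          hab (MulAction.injective k (hka.trans e.symm))
        refine ⟨(⟨h, hh⟩, ⟨h⁻¹ * k, ?_, ?_⟩), Subtype.ext (mul_inv_cancel_left _ _)⟩
        · show (h⁻¹ * k) • a = a
          rw [mul_smul, hka, inv_smul_eq_iff, hHa h hh]
        · show (h⁻¹ * k) • b = b
          rw [mul_smul, inv_smul_eq_iff, hhb]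
    have hc := Nat.card_congr (Equiv.ofBijective f hf)
    rw [Nat.card_prod, hH, hNH] at hc
    exact Nat.eq_of_mul_eq_mul_left (by omega) hc
  have hoddT : Odd (Nat.card T) := by
    rw [hTcard, hQ]
    exact Nat.Even.sub_odd Nat.one_le_two_pow (Nat.even_pow.2 ⟨even_two, by omega⟩) odd_one
  -- every swap is an involution
  have hswap : ∀ g : G, g • a = b → g • b = a → g * g = 1 := by
    intro g hga hgb
    have hI : Nat.card {s : G // orderOf s = 2 ∧ s • a = b} * Q =
        Nat.card {s : G // orderOf s = 2 ∧ s ∉ NH} := by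
      rw [← hH, ← Nat.card_prod]
      refine Nat.card_congr (Equiv.ofBijective (fun p => ⟨(p.2 : G) * p.1 * (p.2 : G)⁻¹,
        by rw [ord_conj]; exact p.1.2.1, fun hm' => ?_⟩) ⟨?_, ?_⟩)
      · have e := (hfixa _).2 hm'
        rw [mul_smul, mul_smul, inv_smul_eq_iff.2 (hHa _ p.2.2).symm, p.1.2.2] at e
        exact hab (MulAction.injective (p.2 : G) ((hHa _ p.2.2).trans e.symm))
      · rintro ⟨s, h⟩ ⟨s', h'⟩ e
        have e1 : (h : G) * s * (h : G)⁻¹ = h' * s' * (h' : G)⁻¹ := congrArg Subtype.val e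
        have e2 : (h : G) = h' := hinjH _ h.2 _ h'.2 (by
          have := congrArg (fun g : G => g • a) e1
          simpa [mul_smul, inv_smul_eq_iff.2 (hHa _ h.2).symm,
            inv_smul_eq_iff.2 (hHa _ h'.2).symm, s.2.2, s'.2.2] using this)
        have e3 : h = h' := Subtype.ext e2
        subst e3
        exact Prod.ext (Subtype.ext (mul_left_cancel (mul_right_cancel e1))) rfl
      · rintro ⟨v, hv, hvN⟩
        obtain ⟨h, hh, hhb⟩ := hHtrans (v • a) fun e => hvN ((hfixa v).1 e)
        refine ⟨(⟨h⁻¹ * v * h, ?_, ?_⟩, ⟨h, hh⟩), Subtype.ext ?_⟩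
        · have := ord_conj h⁻¹ v
          rw [inv_inv] at this
          rw [this, hv]
        · rw [mul_smul, mul_smul, hHa h hh, inv_smul_eq_iff, hhb]
        · show h * (h⁻¹ * v * h) * h⁻¹ = v
          group
    have hsplit : Nat.card {s : G // orderOf s = 2} =
        Nat.card {s : G // orderOf s = 2 ∧ s ∈ NH} + Nat.card {s : G // orderOf s = 2 ∧ s ∉ NH} := by
      rw [← Nat.card_sum]
      exact Nat.card_congr ((Equiv.sumCompl (fun v : {g : G // orderOf g = 2} => (v : G) ∈ NH)).symm.trans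
        (Equiv.sumCongr (Equiv.subtypeSubtypeEquivSubtypeInter _ _)
          (Equiv.subtypeSubtypeEquivSubtypeInter (fun g : G => orderOf g = 2) (fun g => g ∉ NH))))
    have hinH : Nat.card {s : G // orderOf s = 2 ∧ s ∈ NH} = Q - 1 := by
      haveI := Fintype.ofFinite H
      have e : {s : G // orderOf s = 2 ∧ s ∈ NH} ≃ {s : H // s ≠ 1} :=
        { toFun := fun s => ⟨⟨s, hinvNH _ s.2.2 s.2.1⟩, fun h =>
            ne_one_of_ord s.2.1 (congrArg Subtype.val h)⟩
          invFun := fun s => ⟨((s : H) : G), ord_of_sq (hsq _ (s : H).2)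
            (fun h => s.2 (Subtype.ext h)), hHNH (s : H).2⟩
          left_inv := fun _ => rfl
          right_inv := fun _ => rfl }
      rw [Nat.card_congr e, Nat.card_eq_fintype_card, Fintype.card_subtype_compl,
        Fintype.card_subtype_eq, ← Nat.card_eq_fintype_card, hH]
    have hSb : Nat.card {s : G // orderOf s = 2 ∧ s • a = b} = Nat.card T := by
      rw [hTcard]
      rw [hn, hm, hinH, ← hI, add_mul, one_mul] at hsplit
      refine Nat.eq_of_mul_eq_mul_left (show 0 < Q by omega) ?_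
      linarith
    let f : {s : G // orderOf s = 2 ∧ s • a = b} → T := fun s =>
      ⟨(s : G) * g, by
        have hsb : (s : G) • b = a := by
          calc (s : G) • b = (s : G) • (s : G) • a := congrArg _ s.2.2.symm
            _ = a := by rw [← mul_smul, sq_of_ord s.2.1, one_smul]
        exact Zass.swap_mul_mem ⟨s.2.2, hsb⟩ ⟨hga, hgb⟩⟩
    haveI := Fintype.ofFinite {s : G // orderOf s = 2 ∧ s • a = b}
    haveI := Fintype.ofFinite T
    obtain ⟨s, hs⟩ := ((Fintype.bijective_iff_injective_and_card f).2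
      ⟨fun s s' e => Subtype.ext (mul_right_cancel (congrArg Subtype.val e)), by
        rw [← Nat.card_eq_fintype_card, ← Nat.card_eq_fintype_card, hSb]⟩).2 1
    have h1 : (s : G) * g = 1 := congrArg Subtype.val hs
    rw [eq_inv_of_mul_eq_one_right h1, ← mul_inv_rev, sq_of_ord s.2.1, inv_one]
  -- the Zassenhaus group
  have hthree : ∀ (g : G) (p q r : G ⧸ NH), p ≠ q → q ≠ r → p ≠ r →
      g • p = p → g • q = q → g • r = r → g = 1 := by
    intro g p q r hpq hqr hpr hp hq hr
    obtain ⟨k, hka, hkb⟩ := key p q hpq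
    have hk : ∀ c : G ⧸ NH, g • c = c → (k⁻¹ * g * k) • (k⁻¹ • c) = k⁻¹ • c := fun c hc => by
      rw [mul_smul, mul_smul, smul_inv_smul, hc]
    have hp' := hk p hp
    have hq' := hk q hq
    have hr' := hk r hr
    rw [inv_smul_eq_iff.2 hka.symm] at hp'
    rw [inv_smul_eq_iff.2 hkb.symm] at hq'
    obtain ⟨h, hh, hhr⟩ := hHtrans (k⁻¹ • r) fun e => hpr (by rw [← hka, ← e, smul_inv_smul])
    rw [← hhr] at hr'
    have hh1 : h ≠ 1 := fun e => hqr (by
      rw [e, one_smul] at hhr
      rw [← hkb, hhr, smul_inv_smul])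
    by_contra hg
    set w := k⁻¹ * g * k with hw
    have hw1 : w ≠ 1 := fun e => hg (by
      simpa [hw, mul_assoc] using congrArg (fun v => k * v * k⁻¹) e)
    have hwN : w ∈ NH := (hfixa w).1 hp'
    have hc : w * h * w⁻¹ = h := by
      refine hinjH _ ((mem_normalizer_iff.1 hwN h).1 hh) _ hh ?_
      rw [mul_smul, mul_smul, inv_smul_eq_iff.2 hq'.symm, hr']
    have hwH : w ∈ H := by
      rw [← hcen h hh hh1, mem_centralizer_singleton_iff]
      exact mul_inv_eq_iff_eq_mul.1 hc
    exact hab.symm (hfix w hwH hw1 b hq')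
  have hfaith : FaithfulSMul G (G ⧸ NH) := ⟨fun {g k} h => by
    obtain ⟨c, hca, hcb⟩ : ∃ c : G ⧸ NH, c ≠ a ∧ c ≠ b := by
      by_contra hcon
      push Not at hcon
      have hsub : (Finset.univ : Finset (G ⧸ NH)) ⊆ {a, b} := fun c _ => by
        by_cases hca : c = a
        · simp [hca]
        · simp [hcon c hca]
      have h1 := (Finset.card_le_card hsub).trans Finset.card_le_two
      rw [Finset.card_univ, hΩ] at h1
      omega
    have h' : ∀ c : G ⧸ NH, (k⁻¹ * g) • c = c := fun c => by rw [mul_smul, h, inv_smul_smul]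
    exact (inv_mul_eq_one.1 (hthree (k⁻¹ * g) a b c hab hcb.symm hca.symm (h' _) (h' _) (h' _))).symm⟩
  have hnotriv : ∃ t : G, t ≠ 1 ∧ ∃ c e : G ⧸ NH, c ≠ e ∧ t • c = c ∧ t • e = e := by
    have h1 : 1 < Nat.card T := by omega
    obtain ⟨⟨t, ht⟩, ht1⟩ := @exists_ne T (Finite.one_lt_card_iff_nontrivial.1 h1) 1
    exact ⟨t, fun e => ht1 (Subtype.ext e), a, b, hab, ht.1, ht.2⟩
  have hZ : Cfsg.IsZassenhausGroup G (G ⧸ NH) := by
    refine ⟨hfaith, h2t, hthree, hnotriv, fun N hNn hNt => ?_⟩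
    by_contra hcon
    push Not at hcon
    have hNcard : Nat.card N = Nat.card M := by
      have h1 := (stabilizer N a).card_mul_index
      rw [MulAction.index_stabilizer,
        Set.eq_univ_of_forall (s := orbit N a) fun c => hNt.exists_smul_eq a c, Set.ncard_univ,
        Nat.card_eq_fintype_card (α := G ⧸ NH), hΩ] at h1
      have h0 : Nat.card (stabilizer N a) ≤ 1 := by
        haveI : Subsingleton (stabilizer N a) :=
          ⟨fun x y => Subtype.ext ((mem_bot.1 ((hcon a).le x.2)).trans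
            (mem_bot.1 ((hcon a).le y.2)).symm)⟩
        exact Finite.card_le_one_iff_subsingleton.2 inferInstance
      rw [le_antisymm h0 Nat.card_pos, one_mul] at h1
      rw [← h1, hm]
    have hNindex : N.index = Q * (Q - 1) := by
      have h := N.card_mul_index
      rw [hNcard, hG, hm] at h
      exact Nat.eq_of_mul_eq_mul_left (by omega) h
    have hcop : (Q * (Q - 1)).Coprime (Nat.card M) := by
      rw [hm]
      refine Nat.Coprime.mul_left ?_ ?_
      · exact Nat.coprime_self_add_right.2 (Nat.coprime_one_right Q)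
      · rw [show Q + 1 = 2 + (Q - 1) by omega]
        refine Nat.coprime_add_self_right.2 (Nat.coprime_two_right.2 ?_)
        rw [← hTcard]; exact hoddT
    have hMN : M = N := by
      refine Subgroup.eq_of_le_of_card_ge (fun x hx => ?_) hNcard.le
      have h1 : x ^ (Q * (Q - 1)) ∈ N := by
        rw [← hNindex]
        exact Subgroup.pow_index_mem N x
      obtain ⟨j, hj⟩ := exists_pow_eq_self_of_coprime (x := x) (n := Q * (Q - 1))
        (hcop.coprime_dvd_right (by rw [← Subgroup.orderOf_mk x hx]; exact orderOf_dvd_natCard _))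
      exact hj ▸ pow_mem h1 j
    exact S.not_normal (hMN ▸ hNn)
  have hK : Zass.IsKernel a H :=
    ⟨fun h hh => hHa h hh, by rw [hH, hΩ], fun h hh hh1 c hc => hfix h hh hh1 c hc⟩
  obtain ⟨F, iF, iFF, hF, -, ⟨e⟩⟩ := ZassNormal.exists_psl_odd hZ hab hK
    (by rw [← hT, hTcard, hΩ]; omega) hoddT hswap
    (fun x y => Subtype.ext (hcomm _ x.2 _ y.2))
  refine ⟨F, iF, iFF, by omega, ?_, ⟨e⟩⟩
  haveI : CharP F 2 := by
    haveI : Fact (Nat.Prime 2) := ⟨Nat.prime_two⟩
    refine charP_of_card_eq_prime_pow (p := 2) (f := d + 1) ?_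
    omega
  haveI : IsCyclic (M.map e.toMonoidHom) := isCyclic_of_abelian_odd
    (by
      rintro _ ⟨x, hx, rfl⟩ _ ⟨y, hy, rfl⟩
      rw [← map_mul, ← map_mul, S.comm hx hy])
    (by
      rw [Nat.card_congr (M.equivMapOfInjective e.toMonoidHom e.injective).toEquiv.symm]
      exact S.odd_card)
  exact isCyclic_of_injective (M.equivMapOfInjective e.toMonoidHom e.injective).toMonoidHom
    (MulEquiv.injective _)

end Setup

end Cfsg.Agent.LocalEvenD.TIInvol
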